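import Mathlib

/-!
Orders of GL, SL, PGL, PSL over finite fields and centres.
-/

namespace Cfsg.Agent.Lib.Linear

open Matrix

variable {F : Type*} [Field F] {ι : Type*} [Fintype ι] [DecidableEq ι]

/-- The kernel of the determinant is the range of `toGL`. -/
theorem range_toGL_eq_ker_det :
    (Matrix.SpecialLinearGroup.toGL : Matrix.SpecialLinearGroup ι F →* GL ι F).range =
      (GeneralLinearGroup.det : GL ι F →* Fˣ).ker := by
  ext g
  constructor
  · rintro ⟨s, rfl⟩
    exact Units.ext (by simp)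
  · intro hg
    refine ⟨⟨(g : Matrix ι ι F), ?_⟩, Units.ext rfl⟩
    have := congrArg Units.val hg
    simpa using this

/-- `SL ≃* ker det`. -/
noncomputable def slEquivKerDet :
    Matrix.SpecialLinearGroup ι F ≃* (GeneralLinearGroup.det : GL ι F →* Fˣ).ker :=
  (MonoidHom.ofInjective Matrix.SpecialLinearGroup.toGL_injective).trans
    (MulEquiv.subgroupCongr range_toGL_eq_ker_det)

theorem card_GL_eq_units_mul_SL [Nonempty ι] :
    Nat.card (GL ι F) = Nat.card Fˣ * Nat.card (Matrix.SpecialLinearGroup ι F) := by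
  rw [Nat.card_congr slEquivKerDet.toEquiv,
    Subgroup.card_eq_card_quotient_mul_card_subgroup (GeneralLinearGroup.det : GL ι F →* Fˣ).ker,
    Nat.card_congr (QuotientGroup.quotientKerEquivOfSurjective _
      GeneralLinearGroup.det_surjective).toEquiv]

theorem card_center_GL [Nonempty ι] :
    Nat.card (Subgroup.center (GL ι F)) = Nat.card Fˣ := by
  rw [Matrix.GeneralLinearGroup.center_eq_range_scalar]
  refine (Nat.card_congr (MonoidHom.ofInjective ?_).toEquiv).symm
  intro a b h
  have h' := congrArg Units.val h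
  simp only [GeneralLinearGroup.coe_scalar] at h'
  exact Units.ext (Matrix.scalar_inj.mp h')

theorem card_PGL_eq_card_SL [Finite F] :
    Nat.card (ProjGenLinGroup ι F) = Nat.card (Matrix.SpecialLinearGroup ι F) := by
  rcases isEmpty_or_nonempty ι with h | h
  · have : Subsingleton (GL ι F) := ⟨fun a b => Units.ext (Subsingleton.elim _ _)⟩
    have : Subsingleton (ProjGenLinGroup ι F) := ProjGenLinGroup.mk_surjective.subsingleton
    rw [Nat.card_of_subsingleton (1 : ProjGenLinGroup ι F),
      Nat.card_of_subsingleton (1 : Matrix.SpecialLinearGroup ι F)]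
  · have h1 := Subgroup.card_eq_card_quotient_mul_card_subgroup (Subgroup.center (GL ι F))
    rw [card_center_GL, card_GL_eq_units_mul_SL, mul_comm] at h1
    exact (Nat.eq_of_mul_eq_mul_right Nat.card_pos h1).symm

theorem card_center_SL [Finite F] [Nonempty ι] :
    Nat.card (Subgroup.center (Matrix.SpecialLinearGroup ι F)) =
      Nat.gcd (Fintype.card ι) (Nat.card F - 1) := by
  have e : (rootsOfUnity (Fintype.card ι) F) = (powMonoidHom (Fintype.card ι) : Fˣ →* Fˣ).ker := by
    ext x; simp [mem_rootsOfUnity]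
  rw [Nat.card_congr (Matrix.SpecialLinearGroup.center_equiv_rootsOfUnity' (Classical.arbitrary ι)).toEquiv,
    e, IsCyclic.card_powMonoidHom_ker, Nat.card_units, Nat.gcd_comm]

theorem card_SL_eq_gcd_mul_card_PSL [Finite F] [Nonempty ι] :
    Nat.card (Matrix.SpecialLinearGroup ι F) =
      Nat.gcd (Fintype.card ι) (Nat.card F - 1) *
        Nat.card (ProjectiveSpecialLinearGroup ι F) := by
  rw [← card_center_SL, mul_comm]
  exact Subgroup.card_eq_card_quotient_mul_card_subgroup _

/-- `(q-1) |SL_n(q)| = |GL_n(q)|`. -/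
theorem sub_one_mul_card_SL [Fintype F] (n : ℕ) (hn : 1 ≤ n) :
    (Fintype.card F - 1) * Nat.card (Matrix.SpecialLinearGroup (Fin n) F) =
      ∏ i : Fin n, (Fintype.card F ^ n - Fintype.card F ^ (i : ℕ)) := by
  have : Nonempty (Fin n) := ⟨⟨0, hn⟩⟩
  rw [← Matrix.card_GL_field, card_GL_eq_units_mul_SL, Nat.card_units, Nat.card_eq_fintype_card (α := F)]

/-- `|GL_2(q)| = q (q-1)^2 (q+1)`. -/
theorem card_GL_two [Fintype F] :
    Nat.card (GL (Fin 2) F) =
      Fintype.card F * (Fintype.card F - 1) ^ 2 * (Fintype.card F + 1) := by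
  rw [Matrix.card_GL_field, Fin.prod_univ_two]
  have h2 : 2 ≤ Fintype.card F := Fintype.one_lt_card
  obtain ⟨m, hm⟩ : ∃ m, Fintype.card F = m + 1 := ⟨_, (Nat.sub_add_cancel (by omega)).symm⟩
  rw [hm]
  simp only [Fin.val_zero, Fin.val_one, pow_zero, pow_one, Nat.add_sub_cancel]
  have e1 : (m + 1) ^ 2 - 1 = m * (m + 2) := by
    rw [show (m + 1) ^ 2 = m * (m + 2) + 1 by ring]; simp
  have e2 : (m + 1) ^ 2 - (m + 1) = m * (m + 1) := by
    rw [show (m + 1) ^ 2 = m * (m + 1) + (m + 1) by ring]; simp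
  rw [e1, e2]; ring

/-- `|SL_2(q)| = q (q-1) (q+1)`. -/
theorem card_SL_two [Fintype F] :
    Nat.card (Matrix.SpecialLinearGroup (Fin 2) F) =
      Fintype.card F * (Fintype.card F - 1) * (Fintype.card F + 1) := by
  have h := card_GL_eq_units_mul_SL (ι := Fin 2) (F := F)
  rw [card_GL_two, Nat.card_units, Nat.card_eq_fintype_card (α := F)] at h
  have h2 : 2 ≤ Fintype.card F := Fintype.one_lt_card
  apply Nat.eq_of_mul_eq_mul_left (show 0 < Fintype.card F - 1 by omega)
  rw [← h]; ring

/-- `gcd(2,q-1) |PSL_2(q)| = q (q-1) (q+1)`. -/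
theorem gcd_mul_card_PSL_two [Fintype F] :
    Nat.gcd 2 (Fintype.card F - 1) * Nat.card (ProjectiveSpecialLinearGroup (Fin 2) F) =
      Fintype.card F * (Fintype.card F - 1) * (Fintype.card F + 1) := by
  rw [← card_SL_two]
  have := card_SL_eq_gcd_mul_card_PSL (ι := Fin 2) (F := F)
  rw [Fintype.card_fin, Nat.card_eq_fintype_card (α := F)] at this
  exact this.symm

/-- `|PSL_2(q)|` for odd `q`. -/
theorem two_mul_card_PSL_two_of_odd [Fintype F] (h : Odd (Fintype.card F)) :
    2 * Nat.card (ProjectiveSpecialLinearGroup (Fin 2) F) =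
      Fintype.card F * (Fintype.card F - 1) * (Fintype.card F + 1) := by
  rw [← gcd_mul_card_PSL_two]
  congr 1
  obtain ⟨k, hk⟩ := h
  rw [hk, show 2 * k + 1 - 1 = 2 * k by omega]
  simp

/-- `|PSL_2(q)|` for even `q`. -/
theorem card_PSL_two_of_even [Fintype F] (h : Even (Fintype.card F)) :
    Nat.card (ProjectiveSpecialLinearGroup (Fin 2) F) =
      Fintype.card F * (Fintype.card F - 1) * (Fintype.card F + 1) := by
  rw [← gcd_mul_card_PSL_two]
  obtain ⟨k, hk⟩ := h
  have : Nat.Coprime 2 (Fintype.card F - 1) := by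
    rw [Nat.coprime_two_left]
    have h2 : 2 ≤ Fintype.card F := Fintype.one_lt_card
    exact ⟨k - 1, by omega⟩
  rw [Nat.coprime_iff_gcd_eq_one.mp this, one_mul]

end Cfsg.Agent.Lib.Linear
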