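import Cfsg.Agent.Lib.Linear.Transvection

/-!
Simplicity of PSL_n by the Iwasawa criterion.
-/

namespace Cfsg.Agent.Lib.Linear

open Matrix MulAction
open scoped LinearAlgebra.Projectivization Pointwise

variable {F : Type*} [Field F] {ι : Type*} [Fintype ι] [DecidableEq ι]

theorem iSup_lineStab_eq_top :
    (⨆ p : ℙ F (ι → F), Matrix.SpecialLinearGroup.lineStab p.submodule) =
      (⊤ : Subgroup (Matrix.SpecialLinearGroup ι F)) := by
  refine sl_eq_top_of_transvection_mem _ fun i j hij c => ?_
  refine Subgroup.mem_iSup_of_mem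
    (Projectivization.mk F (Pi.single i 1 : ι → F) (Pi.single_ne_zero_iff.2 one_ne_zero)) ?_
  rw [Projectivization.submodule_mk]
  exact SL2Gen.transvection_mem_lineStab hij c

/-- Iwasawa structure on PSL_ι(F) acting on the projective space. -/
noncomputable def iwasawaPSL :
    IwasawaStructure (Matrix.ProjectiveSpecialLinearGroup ι F) (ℙ F (ι → F)) where
  T := PSL.iwasawaT
  is_comm p := by
    have hSL : IsMulCommutative
        (Matrix.SpecialLinearGroup.lineStab (F := F) (ι := ι) p.submodule) := by
      rw [← Projectivization.mk_rep p, Projectivization.submodule_mk]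
      exact Matrix.SpecialLinearGroup.lineStab_isMulCommutative_of_span p.rep p.rep_nonzero
    exact Subgroup.map_isMulCommutative _ _
  is_conj g p := by
    obtain ⟨g_SL, rfl⟩ := QuotientGroup.mk_surjective g
    rw [Matrix.ProjectiveSpecialLinearGroup.smul_proj_mk]
    change Subgroup.map _ _ = _
    rw [PSL.smul_submodule, Matrix.SpecialLinearGroup.lineStab_smul, PSL.iwasawaT_map_conj]
  is_generator := by
    rw [← Subgroup.map_iSup, iSup_lineStab_eq_top]
    exact Subgroup.map_top_of_surjective _ (QuotientGroup.mk'_surjective _)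

/-- PSL_ι(F) is simple whenever SL_ι(F) is perfect. -/
theorem isSimpleGroup_PSL_of_perfect [Nontrivial ι]
    (h : commutator (Matrix.SpecialLinearGroup ι F) = ⊤) :
    IsSimpleGroup (Matrix.ProjectiveSpecialLinearGroup ι F) := by
  have : Group.IsPerfect (Matrix.SpecialLinearGroup ι F) := ⟨h⟩
  have : Group.IsPerfect (Matrix.ProjectiveSpecialLinearGroup ι F) := inferInstance
  exact IwasawaStructure.isSimpleGroup this.commutator_eq_top iwasawaPSL inferInstance

theorem isSimpleGroup_PSL_of_three (h : 3 ≤ Fintype.card ι) :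
    IsSimpleGroup (Matrix.ProjectiveSpecialLinearGroup ι F) := by
  have : Nontrivial ι := Fintype.one_lt_card_iff_nontrivial.mp (by omega)
  exact isSimpleGroup_PSL_of_perfect (commutator_SL_eq_top_of_three h)

theorem isSimpleGroup_PSL [Finite F] {n : ℕ} (hn : 2 ≤ n) (h : n = 2 → 4 ≤ Nat.card F) :
    IsSimpleGroup (Matrix.ProjectiveSpecialLinearGroup (Fin n) F) := by
  have : Nontrivial (Fin n) := Fin.nontrivial_iff_two_le.mpr hn
  exact isSimpleGroup_PSL_of_perfect (commutator_SL_eq_top hn h)

/-- PSL_ι(F) is nonabelian for nontrivial ι. -/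
theorem exists_not_commute_PSL [Nontrivial ι]
    (h : commutator (Matrix.SpecialLinearGroup ι F) = ⊤) :
    ∃ a b : Matrix.ProjectiveSpecialLinearGroup ι F, a * b ≠ b * a := by
  by_contra hne
  push Not at hne
  have : Group.IsPerfect (Matrix.SpecialLinearGroup ι F) := ⟨h⟩
  have hp : Group.IsPerfect (Matrix.ProjectiveSpecialLinearGroup ι F) := inferInstance
  have hb : commutator (Matrix.ProjectiveSpecialLinearGroup ι F) = ⊥ := by
    rw [eq_bot_iff, commutator_def, Subgroup.commutator_le]
    intro a _ b _
    rw [Subgroup.mem_bot, commutatorElement_eq_one_iff_mul_comm]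
    exact hne a b
  rw [hp.commutator_eq_top] at hb
  exact (top_ne_bot : (⊤ : Subgroup (Matrix.ProjectiveSpecialLinearGroup ι F)) ≠ ⊥) hb

end Cfsg.Agent.Lib.Linear
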