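import Mathlib

/-!
Generation of SL by elementary transvections, perfectness of SL, derived subgroup of GL.
-/

namespace Cfsg.Agent.Lib.Linear

open Matrix

open scoped commutatorElement

variable {F : Type*} [Field F] {ι : Type*} [Fintype ι] [DecidableEq ι]

theorem transvection_smul_single_of_ne {i j k : ι} (hij : i ≠ j) (hk : k ≠ j) (b : F) :
    Matrix.SpecialLinearGroup.transvection hij b • (Pi.single k 1 : ι → F) = Pi.single k 1 := by
  simp [Matrix.SpecialLinearGroup.smul_def, Matrix.SpecialLinearGroup.transvection_coe, -mulVec_single,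
    add_mulVec, single_mulVec_eq, hk]

/-- Two elements of SL agreeing on the standard basis are equal. -/
theorem sl_ext_single {A B : Matrix.SpecialLinearGroup ι F}
    (h : ∀ k, A • (Pi.single k 1 : ι → F) = B • Pi.single k 1) : A = B := by
  apply Matrix.SpecialLinearGroup.ext
  intro i k
  have := congrFun (h k) i
  simpa [Matrix.SpecialLinearGroup.smul_def] using this

theorem diag2n_smul_single {i j : ι} (hij : i ≠ j) (a : F) (ha : a ≠ 0) (k : ι) :
    Matrix.SpecialLinearGroup.diag2n hij a ha • (Pi.single k 1 : ι → F) =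
      (if k = i then a else if k = j then a⁻¹ else 1) • Pi.single k 1 := by
  ext l
  by_cases hl : l = k
  · subst hl; simp [Matrix.SpecialLinearGroup.smul_def, Matrix.SpecialLinearGroup.diag2n_coe]
  · simp [Matrix.SpecialLinearGroup.smul_def, Matrix.SpecialLinearGroup.diag2n_coe, hl]

theorem diag2n_decompose {i j : ι} (hij : i ≠ j) (a : F) (ha : a ≠ 0) :
    Matrix.SpecialLinearGroup.diag2n hij a ha =
      Matrix.SpecialLinearGroup.transvection hij a *
      Matrix.SpecialLinearGroup.transvection hij.symm (-a⁻¹) *
      Matrix.SpecialLinearGroup.transvection hij a *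
      Matrix.SpecialLinearGroup.transvection hij (-1) *
      Matrix.SpecialLinearGroup.transvection hij.symm 1 *
      Matrix.SpecialLinearGroup.transvection hij (-1) := by
  apply sl_ext_single
  intro k
  rw [diag2n_smul_single]
  simp only [mul_smul]
  rcases eq_or_ne k i with rfl | hki
  · simp only [if_true, Matrix.SpecialLinearGroup.transvection_smul_single_fst,
      Matrix.SpecialLinearGroup.transvection_smul_single_snd, smul_add, smul_neg, smul_comm
        (_ : Matrix.SpecialLinearGroup ι F) (_ : F)]
    ext l
    by_cases h1 : l = k <;> by_cases h2 : l = j <;> simp_all [Pi.single_apply]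
  · rcases eq_or_ne k j with rfl | hkj
    · simp only [hki, if_false, if_true, Matrix.SpecialLinearGroup.transvection_smul_single_fst,
        Matrix.SpecialLinearGroup.transvection_smul_single_snd, smul_add, smul_neg, smul_comm
          (_ : Matrix.SpecialLinearGroup ι F) (_ : F)]
      ext l
      by_cases h1 : l = k <;> by_cases h2 : l = i <;> simp_all [Pi.single_apply]
    · simp [hki, hkj, transvection_smul_single_of_ne]

/-- The set of elementary transvections in `SL`. -/
def transvectionSet (ι : Type*) (F : Type*) [Fintype ι] [DecidableEq ι] [Field F] :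
    Set (Matrix.SpecialLinearGroup ι F) :=
  {g | ∃ (i j : ι) (h : i ≠ j) (c : F), Matrix.SpecialLinearGroup.transvection h c = g}

/-- A subgroup of SL containing all elementary transvections is everything. -/
theorem sl_eq_top_of_transvection_mem (H : Subgroup (Matrix.SpecialLinearGroup ι F))
    (h : ∀ (i j : ι) (hij : i ≠ j) (c : F), Matrix.SpecialLinearGroup.transvection hij c ∈ H) :
    H = ⊤ := by
  rw [eq_top_iff]
  intro g _
  rcases subsingleton_or_nontrivial ι with hs | hs
  · rw [Subsingleton.elim g 1]; exact H.one_mem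
  · refine Matrix.SpecialLinearGroup.diagonal_transvection_induction' (fun M => M ∈ H) g ?_ h
      (fun A B => H.mul_mem)
    intro i j hij c hc
    rw [diag2n_decompose hij c hc]
    exact H.mul_mem (H.mul_mem (H.mul_mem (H.mul_mem (H.mul_mem (h i j hij c)
      (h j i hij.symm _)) (h i j hij c)) (h i j hij _)) (h j i hij.symm 1)) (h i j hij _)

theorem closure_transvectionSet :
    Subgroup.closure (transvectionSet ι F) = ⊤ :=
  sl_eq_top_of_transvection_mem _ fun i j hij c =>
    Subgroup.subset_closure ⟨i, j, hij, c, rfl⟩

/-- `[T_ij(c), T_jk(d)] = T_ik(c*d)`. -/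
theorem commutator_transvection {i j k : ι} (hij : i ≠ j) (hjk : j ≠ k) (hik : i ≠ k) (c d : F) :
    ⁅Matrix.SpecialLinearGroup.transvection hij c, Matrix.SpecialLinearGroup.transvection hjk d⁆ =
      Matrix.SpecialLinearGroup.transvection hik (c * d) := by
  rw [commutatorElement_def, Matrix.SpecialLinearGroup.transvection_inv,
    Matrix.SpecialLinearGroup.transvection_inv]
  apply Subtype.ext
  simp only [Matrix.SpecialLinearGroup.coe_mul, Matrix.SpecialLinearGroup.transvection_coe]
  simp [mul_add, add_mul, single_mul_single_of_ne, hij.symm, hjk.symm, hik.symm]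
  ext r s
  simp only [Matrix.add_apply, Matrix.neg_apply, Matrix.single_apply]
  split_ifs <;> ring

/-- SL_ι is perfect when there are at least three indices. -/
theorem commutator_SL_eq_top_of_three (h : 3 ≤ Fintype.card ι) :
    commutator (Matrix.SpecialLinearGroup ι F) = ⊤ := by
  refine sl_eq_top_of_transvection_mem _ fun i k hik c => ?_
  obtain ⟨j, hji, hjk⟩ : ∃ j, j ≠ i ∧ j ≠ k := by
    by_contra hne
    push Not at hne
    have hsub : (Finset.univ : Finset ι) ⊆ {i, k} := by
      intro j _
      simp only [Finset.mem_insert, Finset.mem_singleton]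
      exact or_iff_not_imp_left.mpr (hne j)
    have h1 := Finset.card_le_card hsub
    have h2 := Finset.card_le_two (a := i) (b := k)
    rw [Finset.card_univ] at h1
    omega
  have := commutator_transvection hji.symm hjk hik c 1
  rw [mul_one] at this
  rw [← this]
  exact Subgroup.commutator_mem_commutator (Subgroup.mem_top _) (Subgroup.mem_top _)

theorem exists_sq_ne_one_of_four_le [Finite F] (hF : 4 ≤ Nat.card F) :
    ∃ a : F, a ≠ 0 ∧ a ^ 2 ≠ 1 := by
  obtain ⟨x, hx⟩ : IsCyclic Fˣ := inferInstance
  refine ⟨x, Units.ne_zero x, fun h ↦ ?_⟩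
  grw [Nat.card_eq_card_units_add_one F, ← orderOf_eq_card_of_forall_mem_zpowers hx,
    orderOf_le_of_pow_eq_one zero_lt_two (Units.ext <| by simpa using h)] at hF
  omega

/-- SL_2 is perfect when the field has an element with `a^2 ≠ 1`, `a ≠ 0`. -/
theorem commutator_SL_two_eq_top {a : F} (ha : a ≠ 0) (ha2 : a ^ 2 ≠ 1) :
    commutator (Matrix.SpecialLinearGroup (Fin 2) F) = ⊤ :=
  sl_eq_top_of_transvection_mem _ fun _ _ hij c => Matrix.transvection_mem_commutator ha ha2 hij c

/-- SL_n(q) is perfect for n ≥ 2 except SL_2(2), SL_2(3). -/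
theorem commutator_SL_eq_top [Finite F] {n : ℕ} (hn : 2 ≤ n) (h : n = 2 → 4 ≤ Nat.card F) :
    commutator (Matrix.SpecialLinearGroup (Fin n) F) = ⊤ := by
  rcases eq_or_lt_of_le hn with rfl | hn
  · obtain ⟨a, ha, ha2⟩ := exists_sq_ne_one_of_four_le (h rfl)
    exact commutator_SL_two_eq_top ha ha2
  · exact commutator_SL_eq_top_of_three (by rw [Fintype.card_fin]; omega)

theorem isPerfect_SL [Finite F] {n : ℕ} (hn : 2 ≤ n) (h : n = 2 → 4 ≤ Nat.card F) :
    Group.IsPerfect (Matrix.SpecialLinearGroup (Fin n) F) :=
  ⟨commutator_SL_eq_top hn h⟩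

/-- The diagonal element of GL with `a` in place `i` and `1` elsewhere. -/
noncomputable def diagOne (i : ι) (a : Fˣ) : GL ι F :=
  GeneralLinearGroup.mkOfDetNeZero (diagonal (Function.update 1 i (a : F)))
    (by
      rw [det_diagonal, Finset.prod_ne_zero_iff]
      intro k _
      by_cases hk : k = i
      · subst hk; simp
      · simp [Function.update_of_ne hk])

theorem coe_diagOne (i : ι) (a : Fˣ) :
    ((diagOne i a : GL ι F) : Matrix ι ι F) = diagonal (Function.update 1 i (a : F)) := rfl

theorem commutator_GL_eq_ker_det {ι : Type*} [Fintype ι] [DecidableEq ι]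
    (h : Fintype.card ι = 2 → ∃ a : F, a ≠ 0 ∧ a ≠ 1) :
    commutator (GL ι F) = (GeneralLinearGroup.det : GL ι F →* Fˣ).ker := by
  refine le_antisymm (Abelianization.commutator_subset_ker _) ?_
  intro g hg
  have hg' : ∃ s : Matrix.SpecialLinearGroup ι F, Matrix.SpecialLinearGroup.toGL s = g := by
    refine ⟨⟨(g : Matrix ι ι F), ?_⟩, Units.ext rfl⟩
    have := congrArg Units.val (MonoidHom.mem_ker.mp hg)
    simpa using this
  obtain ⟨s, rfl⟩ := hg'
  suffices h' : (commutator (GL ι F)).comap Matrix.SpecialLinearGroup.toGL = ⊤ by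
    have hs : s ∈ (commutator (GL ι F)).comap Matrix.SpecialLinearGroup.toGL := h' ▸ Subgroup.mem_top s
    exact hs
  refine sl_eq_top_of_transvection_mem _ fun i j hij c => ?_
  rw [Subgroup.mem_comap]
  by_cases h3 : 3 ≤ Fintype.card ι
  · have hc : Matrix.SpecialLinearGroup.transvection hij c ∈ commutator (Matrix.SpecialLinearGroup ι F) := by
      rw [commutator_SL_eq_top_of_three h3]; trivial
    have hle : (commutator (Matrix.SpecialLinearGroup ι F)).map Matrix.SpecialLinearGroup.toGL ≤
        commutator (GL ι F) := by
      rw [commutator_def, Subgroup.map_commutator, commutator_def]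
      exact Subgroup.commutator_mono le_top le_top
    exact hle (Subgroup.mem_map_of_mem _ hc)
  · have h2 : Fintype.card ι = 2 := by
      have : 1 < Fintype.card ι := Fintype.one_lt_card_iff.mpr ⟨i, j, hij⟩
      omega
    obtain ⟨a, ha, ha1⟩ := h h2
    obtain ⟨b, hb'⟩ : ∃ b : F, a * b = b + c := by
      refine ⟨c / (a - 1), ?_⟩
      have : a - 1 ≠ 0 := sub_ne_zero.mpr ha1
      field_simp
      ring
    set d : GL ι F := diagOne i (Units.mk0 a ha) with hd
    set u : GL ι F := Matrix.SpecialLinearGroup.toGL (Matrix.SpecialLinearGroup.transvection hij b) with hu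
    set v : GL ι F := Matrix.SpecialLinearGroup.toGL (Matrix.SpecialLinearGroup.transvection hij c) with hv
    have key : d * u = v * u * d := by
      apply GeneralLinearGroup.ext
      intro k l
      simp only [hd, hu, hv, GeneralLinearGroup.coe_mul, coe_diagOne,
        Matrix.SpecialLinearGroup.coe_GL_coe_matrix, Matrix.SpecialLinearGroup.transvection_coe,
        diagonal_mul, mul_diagonal]
      simp only [Matrix.add_mul, Matrix.one_mul, Matrix.mul_add, Matrix.mul_one,
        single_mul_single_of_ne _ _ _ _ hij.symm, add_zero]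
      simp only [Matrix.add_apply, Matrix.one_apply, Matrix.single_apply]
      rcases eq_or_ne k i with rfl | hk
      · rcases eq_or_ne l j with rfl | hl
        · simp [hij, hij.symm, Units.val_mk0, hb', add_comm]
        · rcases eq_or_ne k l with rfl | hkl
          · simp [hl, Ne.symm hl]
          · simp [hl, hkl, Ne.symm hl]
      · rcases eq_or_ne k l with rfl | hkl
        · simp [hk, Ne.symm hk]
        · simp [hk, hkl, Ne.symm hk]
    have : v = ⁅d, u⁆ := by
      rw [commutatorElement_def, key]; group
    rw [this]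
    exact Subgroup.commutator_mem_commutator (Subgroup.mem_top _) (Subgroup.mem_top _)

end Cfsg.Agent.Lib.Linear
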