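import Cfsg.Agent.Lib.Linear.Simple
import Cfsg.Agent.Lib.Linear.Order

/-!
The projective line: 3-transitivity of GL_2 / PGL_2, fixers of three points, embedding of PSL_2 in
the symmetric group on the points.
-/

namespace Cfsg.Agent.Lib.Linear

open Matrix
open scoped LinearAlgebra.Projectivization

variable {F : Type*} [Field F]

theorem vec2_det_ne_zero {u v : Fin 2 → F} (hu : u ≠ 0) (hv : v ≠ 0)
    (h : Projectivization.mk F u hu ≠ Projectivization.mk F v hv) :
    u 0 * v 1 - u 1 * v 0 ≠ 0 := by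
  intro hd
  apply h
  rw [Projectivization.mk_eq_mk_iff']
  rcases eq_or_ne (v 0) 0 with h0 | h0
  · have h1 : v 1 ≠ 0 := by
      intro h1; apply hv; funext i; fin_cases i <;> assumption
    refine ⟨u 1 / v 1, ?_⟩
    have hu0 : u 0 = 0 := by
      rw [h0, mul_zero, sub_zero] at hd
      exact (mul_eq_zero.mp hd).resolve_right h1
    funext i; fin_cases i <;> simp [h0, hu0, h1]
  · refine ⟨u 0 / v 0, ?_⟩
    funext i
    fin_cases i
    · simp [h0]
    · show u 0 / v 0 * v 1 = u 1
      field_simp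
      linear_combination hd

/-- The three standard points. -/
def stdVec : Fin 3 → Fin 2 → F := ![![1, 0], ![0, 1], ![1, 1]]

theorem stdVec_ne_zero (i : Fin 3) : (stdVec i : Fin 2 → F) ≠ 0 := by
  intro h
  have h0 := congrFun h 0
  have h1 := congrFun h 1
  fin_cases i <;> simp [stdVec] at h0 h1

/-- The standard points as points of the projective line. -/
def stdPt (i : Fin 3) : ℙ F (Fin 2 → F) := Projectivization.mk F (stdVec i) (stdVec_ne_zero i)

theorem stdPt_injective : Function.Injective (stdPt (F := F)) := by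
  intro i j h
  obtain ⟨c, hc⟩ := (Projectivization.mk_eq_mk_iff' F _ _ _ _).mp h
  have h0 := congrFun hc 0
  have h1 := congrFun hc 1
  fin_cases i <;> fin_cases j <;> simp_all [stdVec]

theorem exists_matrix_std {a b c : ℙ F (Fin 2 → F)} (hab : a ≠ b) (hac : a ≠ c) (hbc : b ≠ c) :
    ∃ g : GL (Fin 2) F, g • stdPt 0 = a ∧ g • stdPt 1 = b ∧ g • stdPt 2 = c := by
  induction a using Projectivization.ind with | _ u hu =>
  induction b using Projectivization.ind with | _ v hv =>
  induction c using Projectivization.ind with | _ w hw =>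
  have huv := vec2_det_ne_zero hu hv hab
  have huw := vec2_det_ne_zero hu hw hac
  have hvw := vec2_det_ne_zero hv hw hbc
  set D := u 0 * v 1 - u 1 * v 0 with hD
  set α := (w 0 * v 1 - w 1 * v 0) / D with hα
  set β := (u 0 * w 1 - u 1 * w 0) / D with hβ
  have hα0 : α ≠ 0 := div_ne_zero (fun h => hvw (by linear_combination (-1) * h)) huv
  have hβ0 : β ≠ 0 := div_ne_zero huw huv
  let g : GL (Fin 2) F := GeneralLinearGroup.mkOfDetNeZero !![α * u 0, β * v 0; α * u 1, β * v 1]
    (by
      rw [Matrix.det_fin_two_of,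
        show α * u 0 * (β * v 1) - β * v 0 * (α * u 1) = α * β * D by ring]
      exact mul_ne_zero (mul_ne_zero hα0 hβ0) huv)
  have hg : ∀ x : Fin 2 → F, g • x = !![α * u 0, β * v 0; α * u 1, β * v 1] *ᵥ x := fun x => rfl
  refine ⟨g, ?_, ?_, ?_⟩ <;>
    rw [stdPt, Projectivization.smul_mk, Projectivization.mk_eq_mk_iff']
  · refine ⟨α, ?_⟩
    rw [hg]; funext i; fin_cases i <;> simp [stdVec]
  · refine ⟨β, ?_⟩
    rw [hg]; funext i; fin_cases i <;> simp [stdVec]
  · refine ⟨1, ?_⟩
    rw [hg]; funext i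
    fin_cases i <;> simp [stdVec, hα, hβ] <;> field_simp <;> rw [hD] <;> ring

/-- An element fixing the standard points is scalar. -/
theorem fix_std_apply {g : GL (Fin 2) F} (h : ∀ i, g • stdPt (F := F) i = stdPt i) :
    (g : Matrix (Fin 2) (Fin 2) F) 1 0 = 0 ∧ (g : Matrix (Fin 2) (Fin 2) F) 0 1 = 0 ∧
      (g : Matrix (Fin 2) (Fin 2) F) 0 0 = (g : Matrix (Fin 2) (Fin 2) F) 1 1 := by
  have h' : ∀ i, ∃ c : F, c • (stdVec i : Fin 2 → F) =
      (g : Matrix (Fin 2) (Fin 2) F) *ᵥ stdVec i := fun i => by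
    have := h i
    rw [stdPt, Projectivization.smul_mk, Projectivization.mk_eq_mk_iff'] at this
    exact this
  obtain ⟨a, ha⟩ := h' 0
  obtain ⟨b, hb⟩ := h' 1
  obtain ⟨c, hc⟩ := h' 2
  have a1 := congrFun ha 1
  have b0 := congrFun hb 0
  have c0 := congrFun hc 0
  have c1 := congrFun hc 1
  simp [stdVec, Matrix.mulVec, dotProduct, Fin.sum_univ_two] at a1 b0 c0 c1
  refine ⟨a1.symm, b0.symm, ?_⟩
  rw [← a1, zero_add] at c1
  rw [← b0, add_zero] at c0
  rw [← c0, ← c1]

theorem PGL_mk_smul (g : GL (Fin 2) F) (a : ℙ F (Fin 2 → F)) :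
    (ProjGenLinGroup.mk g) • a = g • a := by
  induction a using Projectivization.ind with | _ v hv => rfl

theorem isMultiplyPretransitive_three_PGL :
    MulAction.IsMultiplyPretransitive (ProjGenLinGroup (Fin 2) F) (ℙ F (Fin 2 → F)) 3 := by
  refine ⟨fun x y => ?_⟩
  have key : ∀ z : Fin 3 ↪ ℙ F (Fin 2 → F), ∃ g : GL (Fin 2) F, ∀ i, g • stdPt i = z i := fun z => by
    obtain ⟨g, h0, h1, h2⟩ := exists_matrix_std (z.injective.ne (show (0 : Fin 3) ≠ 1 by decide))
      (z.injective.ne (show (0 : Fin 3) ≠ 2 by decide))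
      (z.injective.ne (show (1 : Fin 3) ≠ 2 by decide))
    exact ⟨g, fun i => by fin_cases i <;> assumption⟩
  obtain ⟨g, hg⟩ := key x
  obtain ⟨h, hh⟩ := key y
  refine ⟨ProjGenLinGroup.mk (h * g⁻¹), ?_⟩
  ext i
  rw [Function.Embedding.smul_apply, PGL_mk_smul, mul_smul, ← hg i, inv_smul_smul, hh]

theorem eq_one_of_fix_three (g : ProjGenLinGroup (Fin 2) F) (a b c : ℙ F (Fin 2 → F))
    (hab : a ≠ b) (hac : a ≠ c) (hbc : b ≠ c) (ha : g • a = a) (hb : g • b = b) (hc : g • c = c) :
    g = 1 := by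
  induction g using Matrix.ProjGenLinGroup.induction_on with | mk g =>
  obtain ⟨k, h0, h1, h2⟩ := exists_matrix_std hab hac hbc
  rw [PGL_mk_smul] at ha hb hc
  have hfix : ∀ i, (k⁻¹ * g * k) • stdPt i = stdPt (F := F) i := by
    intro i
    rw [mul_smul, mul_smul, inv_smul_eq_iff]
    match i with
    | 0 => rw [h0, ha]
    | 1 => rw [h1, hb]
    | 2 => rw [h2, hc]
  obtain ⟨e10, e01, e00⟩ := fix_std_apply hfix
  have hz : k⁻¹ * g * k ∈ Subgroup.center (GL (Fin 2) F) := by
    rw [GeneralLinearGroup.center_eq_range_scalar]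
    refine ⟨Units.mk0 (((k⁻¹ * g * k : GL (Fin 2) F) : Matrix (Fin 2) (Fin 2) F) 0 0) ?_, ?_⟩
    · intro h
      have := GeneralLinearGroup.det_ne_zero (k⁻¹ * g * k)
      rw [Matrix.det_fin_two, h, e01] at this
      simp at this
    · apply GeneralLinearGroup.ext
      intro i j
      fin_cases i <;> fin_cases j <;>
        simp [-Units.val_mul, -GeneralLinearGroup.coe_mul, e10, e01, e00]
  rw [ProjGenLinGroup.mk_eq_one]
  have := (Subgroup.Normal.conj_mem inferInstance _ hz k)
  simpa [mul_assoc] using this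

theorem card_projLine [Finite F] : Nat.card (ℙ F (Fin 2 → F)) = Nat.card F + 1 :=
  Projectivization.card_of_finrank_two F _ (Module.finrank_fin_fun F)

/-- The permutation representation of PSL_2 on the points, in `Equiv.Perm (Fin k)`. -/
noncomputable def pslPermFin [Fintype F] {k : ℕ} (hk : Fintype.card F + 1 = k) :
    ProjectiveSpecialLinearGroup (Fin 2) F →* Equiv.Perm (Fin k) :=
  ((Nonempty.some (Finite.card_eq.mp (show Nat.card (ℙ F (Fin 2 → F)) = Nat.card (Fin k) by
    rw [card_projLine, Nat.card_fin, Nat.card_eq_fintype_card, hk])) :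
      ℙ F (Fin 2 → F) ≃ Fin k).permCongrHom.toMonoidHom).comp Projectivization.PSLAction.toPermHom

theorem pslPermFin_injective [Fintype F] {k : ℕ} (hk : Fintype.card F + 1 = k) :
    Function.Injective (pslPermFin hk) :=
  fun a b h => by
    apply Matrix.ProjectiveSpecialLinearGroup.toPermHom_injective
    simp only [pslPermFin, MonoidHom.comp_apply, MulEquiv.coe_toMonoidHom] at h
    exact (MulEquiv.injective _) h

theorem range_eq_alternating_of_card {G : Type*} [Group G] {k : ℕ} (_hk : 2 ≤ k)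
    (φ : G →* Equiv.Perm (Fin k)) (hφ : Function.Injective φ)
    (hc : 2 * Nat.card G = Nat.factorial k) : φ.range = alternatingGroup (Fin k) := by
  apply Equiv.Perm.eq_alternatingGroup_of_index_eq_two
  have h := φ.range.card_mul_index
  rw [Nat.card_perm, Nat.card_fin, ← Nat.card_congr (MonoidHom.ofInjective hφ).toEquiv, ← hc,
    mul_comm 2] at h
  have : 0 < Nat.card G := by
    rcases Nat.eq_zero_or_pos (Nat.card G) with h0 | h0
    · exfalso
      rw [h0, mul_zero] at hc
      exact absurd hc.symm (Nat.factorial_pos k).ne'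
    · exact h0
  exact Nat.eq_of_mul_eq_mul_left this h

theorem nonempty_mulEquiv_alternating {G : Type*} [Group G] {k : ℕ} (hk : 2 ≤ k)
    (φ : G →* Equiv.Perm (Fin k)) (hφ : Function.Injective φ)
    (hc : 2 * Nat.card G = Nat.factorial k) : Nonempty (G ≃* alternatingGroup (Fin k)) :=
  ⟨(MonoidHom.ofInjective hφ).trans
    (MulEquiv.subgroupCongr (range_eq_alternating_of_card hk φ hφ hc))⟩

end Cfsg.Agent.Lib.Linear
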