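import Cfsg.Agent.Lib.Linear.SL2
import Cfsg.Agent.Lib.PGroups.UniqueInvolution

/-!
For odd q the Sylow 2-subgroups of SL_2(q) are generalised quaternion.
-/

namespace Cfsg.Agent.Lib.Linear

open Matrix

variable {F : Type*} [Field F] [Fintype F]

theorem sylow_two_SL2_not_isCyclic (hF : Odd (Fintype.card F))
    (P : Sylow 2 (Matrix.SpecialLinearGroup (Fin 2) F)) :
    ¬ IsCyclic (P : Subgroup (Matrix.SpecialLinearGroup (Fin 2) F)) := by
  intro hc
  obtain ⟨g, hg⟩ := IsCyclic.exists_ofOrder_eq_natCard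
    (α := (P : Subgroup (Matrix.SpecialLinearGroup (Fin 2) F)))
  have hno : ¬ 2 * Nat.card (P : Subgroup (Matrix.SpecialLinearGroup (Fin 2) F)) ∣
      Nat.card (Matrix.SpecialLinearGroup (Fin 2) F) := by
    rw [← (P : Subgroup (Matrix.SpecialLinearGroup (Fin 2) F)).card_mul_index, mul_comm 2]
    intro h
    exact P.not_dvd_index ((Nat.mul_dvd_mul_iff_left Nat.card_pos).mp h)
  apply hno
  rw [card_SL_two]
  obtain ⟨k, hk⟩ := hF
  have h1 : 2 ∣ Fintype.card F - 1 := ⟨k, by omega⟩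
  have h2 : 2 ∣ Fintype.card F + 1 := ⟨k + 1, by omega⟩
  obtain ⟨p, hp⟩ := CharP.exists F
  have : Fact p.Prime := ⟨(CharP.char_is_prime_or_zero F p).resolve_right
    (fun h => CharP.char_ne_zero_of_finite F p h)⟩
  have hg' : orderOf (g : Matrix.SpecialLinearGroup (Fin 2) F) =
      Nat.card (P : Subgroup (Matrix.SpecialLinearGroup (Fin 2) F)) :=
    (Subgroup.orderOf_coe g).trans hg
  rw [mul_assoc]
  refine Dvd.dvd.mul_left ?_ _
  rcases orderOf_dvd_cases p (g : Matrix.SpecialLinearGroup (Fin 2) F) with h | h | h <;>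
    rw [hg'] at h
  · rw [mul_comm 2]; exact mul_dvd_mul h h2
  · exact mul_dvd_mul h1 h
  · have hp2 : p ≠ 2 := by
      intro hp2
      subst hp2
      obtain ⟨e, he, hq⟩ := exists_card_eq_pow (F := F) 2
      have : 2 ∣ Fintype.card F := hq ▸ dvd_pow_self 2 he.ne'
      omega
    obtain ⟨e, he⟩ := IsPGroup.iff_card.mp P.isPGroup'
    have hcop : Nat.Coprime (Nat.card (P : Subgroup (Matrix.SpecialLinearGroup (Fin 2) F))) p := by
      rw [he]
      exact Nat.Coprime.pow_left e ((Nat.coprime_primes Nat.prime_two Fact.out).mpr (Ne.symm hp2))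
    exact mul_dvd_mul h1 ((hcop.dvd_of_dvd_mul_right h).trans h2)

theorem sylow_two_SL2_quaternion (hF : Odd (Fintype.card F))
    (P : Sylow 2 (Matrix.SpecialLinearGroup (Fin 2) F)) :
    ∃ k : ℕ, 1 ≤ k ∧
      Nonempty ((P : Subgroup (Matrix.SpecialLinearGroup (Fin 2) F)) ≃* QuaternionGroup (2 ^ k)) := by
  rcases Cfsg.Agent.Lib.PGroups.isCyclic_or_quaternion P.isPGroup' (fun x y hx hy => by
    have key : ∀ z : (P : Subgroup (Matrix.SpecialLinearGroup (Fin 2) F)), orderOf z = 2 →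
        ((z : Matrix.SpecialLinearGroup (Fin 2) F) : Matrix (Fin 2) (Fin 2) F) = -1 := by
      intro z hz
      refine eq_neg_one_of_mul_self (two_ne_zero_of_odd_card hF) ?_ ?_
      · intro h
        rw [OneMemClass.coe_eq_one] at h
        rw [h, orderOf_one] at hz
        exact absurd hz (by norm_num)
      · rw [← Subgroup.coe_mul, ← sq, orderOf_dvd_iff_pow_eq_one.mp hz.dvd]; rfl
    have : y = x := Subtype.ext (Subtype.ext ((key y hy).trans (key x hx).symm))
    rw [this]; exact Subgroup.mem_zpowers x) with h | ⟨_, h⟩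
  · exact absurd h (sylow_two_SL2_not_isCyclic hF P)
  · exact h

end Cfsg.Agent.Lib.Linear
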