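import Cfsg.Agent.Lib.Linear.Unipotent

/-!
SL_2 over a field: quadratic relation, centralisers of non-scalar elements, the eigenvalue character
on them, element orders over finite fields, cyclicity of abelian p'-subgroups, the unique involution.
-/

namespace Cfsg.Agent.Lib.Linear

open Matrix

variable {F : Type*} [Field F]

local notation "SL2" => Matrix.SpecialLinearGroup (Fin 2) F
local notation "M2" => Matrix (Fin 2) (Fin 2) F

/-- `x` is not a scalar matrix. -/
def NonScalar (x : Matrix.SpecialLinearGroup (Fin 2) F) : Prop :=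
  ∀ a : F, (x : Matrix (Fin 2) (Fin 2) F) ≠ a • (1 : Matrix (Fin 2) (Fin 2) F)

theorem sl2_det (x : SL2) :
    (x : M2) 0 0 * (x : M2) 1 1 - (x : M2) 0 1 * (x : M2) 1 0 = 1 := by
  rw [← Matrix.det_fin_two]
  exact x.2

theorem sl2_mul_self (x : SL2) :
    (x : M2) * (x : M2) = Matrix.trace (x : M2) • (x : M2) - 1 := by
  have hdet := sl2_det x
  ext i j
  fin_cases i <;> fin_cases j <;> simp [Matrix.mul_apply, Fin.sum_univ_two, Matrix.trace_fin_two] <;>
    first
      | linear_combination hdet
      | linear_combination (-1) * hdet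
      | ring

theorem exists_eq_add_smul_of_commute {x g : SL2} (hx : NonScalar x) (h : g * x = x * g) :
    ∃ a b : F, (g : M2) = a • 1 + b • (x : M2) := by
  have h' : (g : M2) * (x : M2) = (x : M2) * (g : M2) :=
    congrArg (fun z : SL2 => (z : M2)) h
  have e00 := congrFun (congrFun h' 0) 0
  have e01 := congrFun (congrFun h' 0) 1
  have e10 := congrFun (congrFun h' 1) 0
  simp only [Matrix.mul_apply, Fin.sum_univ_two] at e00 e01 e10
  by_cases h01 : (x : M2) 0 1 = 0
  · by_cases h10 : (x : M2) 1 0 = 0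
    · have hd : (x : M2) 0 0 - (x : M2) 1 1 ≠ 0 := by
        intro hd
        apply hx ((x : M2) 0 0)
        ext i j
        fin_cases i <;> fin_cases j <;> simp [h01, h10, ← sub_eq_zero.mp hd]
      have g01 : (g : M2) 0 1 = 0 := by
        have : (g : M2) 0 1 * ((x : M2) 0 0 - (x : M2) 1 1) = 0 := by
          rw [h01] at e01; linear_combination (-1) * e01
        exact (mul_eq_zero.mp this).resolve_right hd
      have g10 : (g : M2) 1 0 = 0 := by
        have : (g : M2) 1 0 * ((x : M2) 0 0 - (x : M2) 1 1) = 0 := by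
          rw [h10] at e10; linear_combination e10
        exact (mul_eq_zero.mp this).resolve_right hd
      set b : F := ((g : M2) 0 0 - (g : M2) 1 1) / ((x : M2) 0 0 - (x : M2) 1 1) with hb
      have hb' : b * ((x : M2) 0 0 - (x : M2) 1 1) = (g : M2) 0 0 - (g : M2) 1 1 :=
        div_mul_cancel₀ _ hd
      refine ⟨(g : M2) 0 0 - b * (x : M2) 0 0, b, ?_⟩
      ext i j
      fin_cases i <;> fin_cases j <;> simp [g01, g10, h01, h10]
      linear_combination hb'
    · set b : F := (g : M2) 1 0 / (x : M2) 1 0 with hb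
      have hb' : b * (x : M2) 1 0 = (g : M2) 1 0 := div_mul_cancel₀ _ h10
      refine ⟨(g : M2) 0 0 - b * (x : M2) 0 0, b, ?_⟩
      have g01 : (g : M2) 0 1 = b * (x : M2) 0 1 := by
        apply mul_right_cancel₀ h10
        linear_combination e00 - (x : M2) 0 1 * hb'
      have g11 : (g : M2) 1 1 = (g : M2) 0 0 - b * (x : M2) 0 0 + b * (x : M2) 1 1 := by
        apply mul_right_cancel₀ h10
        linear_combination e10 + ((x : M2) 0 0 - (x : M2) 1 1) * hb'
      ext i j
      fin_cases i <;> fin_cases j <;> simp [g01, g11, hb']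
  · set b : F := (g : M2) 0 1 / (x : M2) 0 1 with hb
    have hb' : b * (x : M2) 0 1 = (g : M2) 0 1 := div_mul_cancel₀ _ h01
    refine ⟨(g : M2) 0 0 - b * (x : M2) 0 0, b, ?_⟩
    have g10 : (g : M2) 1 0 = b * (x : M2) 1 0 := by
      apply mul_right_cancel₀ h01
      linear_combination (-1) * e00 - (x : M2) 1 0 * hb'
    have g11 : (g : M2) 1 1 = (g : M2) 0 0 - b * (x : M2) 0 0 + b * (x : M2) 1 1 := by
      apply mul_right_cancel₀ h01
      linear_combination (-1) * e01 + ((x : M2) 0 0 - (x : M2) 1 1) * hb'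
    ext i j
    fin_cases i <;> fin_cases j <;> simp [g10, g11, hb']

theorem coeff_unique {x : SL2} (hx : NonScalar x) {a b a' b' : F}
    (h : a • (1 : M2) + b • (x : M2) = a' • 1 + b' • (x : M2)) : a = a' ∧ b = b' := by
  have hb : b = b' := by
    by_contra hne
    apply hx ((a' - a) / (b - b'))
    have hbb : b - b' ≠ 0 := sub_ne_zero.mpr hne
    have h' : (b - b') • (x : M2) = (a' - a) • 1 := by
      rw [sub_smul, sub_smul, sub_eq_sub_iff_add_eq_add, add_comm (b • (x : M2)), h]
    rw [div_eq_inv_mul, ← smul_smul, ← h', smul_smul, inv_mul_cancel₀ hbb, one_smul]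
  subst hb
  refine ⟨?_, rfl⟩
  have h0 := congrFun (congrFun (add_right_cancel (G := M2) h) 0) 0
  simpa using h0

theorem det_add_smul (x : SL2) (a b : F) :
    (a • (1 : M2) + b • (x : M2)).det = a ^ 2 + a * b * Matrix.trace (x : M2) + b ^ 2 := by
  have hdet := sl2_det x
  simp [Matrix.det_fin_two, Matrix.trace_fin_two]
  linear_combination b ^ 2 * hdet

section Eigen

variable {K : Type*} [Field K] [Algebra F K]

/-- `μ` is an eigenvalue of `x`. -/
def IsEigen (x : Matrix.SpecialLinearGroup (Fin 2) F) (μ : K) : Prop :=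
  μ ^ 2 - algebraMap F K (Matrix.trace (x : Matrix (Fin 2) (Fin 2) F)) * μ + 1 = 0

theorem IsEigen.ne_zero {x : SL2} {μ : K} (h : IsEigen x μ) : μ ≠ 0 := by
  rintro rfl
  simp [IsEigen] at h

theorem IsEigen.trace_eq {x : SL2} {μ : K} (h : IsEigen x μ) :
    algebraMap F K (Matrix.trace (x : M2)) = μ + μ⁻¹ := by
  have h0 := h.ne_zero
  unfold IsEigen at h
  field_simp
  linear_combination (-1) * h

theorem IsEigen.eq_or_eq_inv {x : SL2} {μ ν : K} (h : IsEigen x μ) (h' : IsEigen x ν) :
    ν = μ ∨ ν = μ⁻¹ := by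
  have : (ν - μ) * (ν - μ⁻¹) = 0 := by
    have e := h.trace_eq
    unfold IsEigen at h'
    rw [e] at h'
    linear_combination h' + mul_inv_cancel₀ h.ne_zero
  rcases mul_eq_zero.mp this with h1 | h1
  · exact Or.inl (sub_eq_zero.mp h1)
  · exact Or.inr (sub_eq_zero.mp h1)

theorem IsEigen.nonScalar {x : SL2} {μ : K} (h : IsEigen x μ) (h2 : μ ^ 2 ≠ 1) :
    NonScalar x := by
  intro a ha
  apply h2
  have hdet := sl2_det x
  rw [ha] at hdet
  simp at hdet
  have htr : Matrix.trace (x : M2) = a + a := by rw [ha]; simp; ring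
  have e : (μ - algebraMap F K a) ^ 2 = 0 := by
    unfold IsEigen at h
    rw [htr, map_add] at h
    have := congrArg (algebraMap F K) hdet
    rw [map_mul, map_one] at this
    linear_combination h + this
  rw [sub_eq_zero.mp (sq_eq_zero_iff.mp e), ← map_pow, sq, hdet, map_one]

theorem exists_coeff {x : SL2} (hx : NonScalar x)
    (g : Subgroup.centralizer ({x} : Set SL2)) :
    ∃ ab : F × F, ((g : SL2) : M2) = ab.1 • 1 + ab.2 • (x : M2) := by
  obtain ⟨a, b, h⟩ := exists_eq_add_smul_of_commute hx
    (Subgroup.mem_centralizer_singleton_iff.mp g.2)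
  exact ⟨(a, b), h⟩

/-- The value of the eigenvalue character. -/
noncomputable def eigFun {x : Matrix.SpecialLinearGroup (Fin 2) F} {μ : K} (h : IsEigen x μ)
    (h2 : μ ^ 2 ≠ 1)
    (g : Subgroup.centralizer ({x} : Set (Matrix.SpecialLinearGroup (Fin 2) F))) : K :=
  algebraMap F K (exists_coeff (h.nonScalar h2) g).choose.1 +
    algebraMap F K (exists_coeff (h.nonScalar h2) g).choose.2 * μ

theorem eigFun_eq {x : SL2} {μ : K} (h : IsEigen x μ) (h2 : μ ^ 2 ≠ 1)
    (g : Subgroup.centralizer ({x} : Set SL2)) {a b : F}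
    (hg : ((g : SL2) : M2) = a • 1 + b • (x : M2)) :
    eigFun h h2 g = algebraMap F K a + algebraMap F K b * μ := by
  have hs := (exists_coeff (h.nonScalar h2) g).choose_spec
  obtain ⟨e1, e2⟩ := coeff_unique (h.nonScalar h2) (hs.symm.trans hg)
  rw [eigFun, e1, e2]

/-- The eigenvalue character on the centraliser of `x`. -/
noncomputable def eigChar {x : Matrix.SpecialLinearGroup (Fin 2) F} {μ : K} (h : IsEigen x μ)
    (h2 : μ ^ 2 ≠ 1) :
    Subgroup.centralizer ({x} : Set (Matrix.SpecialLinearGroup (Fin 2) F)) →* K where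
  toFun := eigFun h h2
  map_one' := by
    rw [eigFun_eq h h2 1 (a := 1) (b := 0) (by simp)]
    simp
  map_mul' g g' := by
    obtain ⟨⟨a, b⟩, hg⟩ := exists_coeff (h.nonScalar h2) g
    obtain ⟨⟨c, d⟩, hg'⟩ := exists_coeff (h.nonScalar h2) g'
    rw [eigFun_eq h h2 g hg, eigFun_eq h h2 g' hg',
      eigFun_eq h h2 (g * g') (a := a * c - b * d)
        (b := a * d + b * c + b * d * Matrix.trace (x : M2)) ?_]
    · simp only [map_sub, map_add, map_mul]
      have he : μ ^ 2 - algebraMap F K (Matrix.trace (x : M2)) * μ + 1 = 0 := h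
      linear_combination -(algebraMap F K b * algebraMap F K d) * he
    · rw [Subgroup.coe_mul, Matrix.SpecialLinearGroup.coe_mul]
      simp only [hg, hg', Matrix.add_mul, Matrix.mul_add, smul_mul_assoc, mul_smul_comm, one_mul,
        mul_one, sl2_mul_self, smul_smul, smul_sub]
      module

theorem eigChar_eq {x : SL2} {μ : K} (h : IsEigen x μ) (h2 : μ ^ 2 ≠ 1)
    (g : Subgroup.centralizer ({x} : Set SL2)) {a b : F}
    (hg : ((g : SL2) : M2) = a • 1 + b • (x : M2)) :
    eigChar h h2 g = algebraMap F K a + algebraMap F K b * μ :=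
  eigFun_eq h h2 g hg

theorem eigChar_self {x : SL2} {μ : K} (h : IsEigen x μ) (h2 : μ ^ 2 ≠ 1) :
    eigChar h h2 ⟨x, Subgroup.mem_centralizer_singleton_iff.mpr rfl⟩ = μ := by
  rw [eigChar_eq h h2 _ (a := 0) (b := 1) (by simp)]
  simp

theorem eigChar_injective {x : SL2} {μ : K} (h : IsEigen x μ) (h2 : μ ^ 2 ≠ 1) :
    Function.Injective (eigChar h h2) := by
  have key : ∀ g, eigChar h h2 g = 1 → g = 1 := by
    intro g hg
    obtain ⟨⟨a, b⟩, hab⟩ := exists_coeff (h.nonScalar h2) g
    rw [eigChar_eq h h2 g hab] at hg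
    have hd : a ^ 2 + a * b * Matrix.trace (x : M2) + b ^ 2 = 1 := by
      rw [← det_add_smul, ← hab]
      exact (g : SL2).2
    have hd' := congrArg (algebraMap F K) hd
    simp only [map_add, map_mul, map_pow, map_one, h.trace_eq] at hd'
    have h0 := h.ne_zero
    have hinv : algebraMap F K a + algebraMap F K b * μ⁻¹ = 1 := by
      calc algebraMap F K a + algebraMap F K b * μ⁻¹
          = (algebraMap F K a + algebraMap F K b * μ) *
              (algebraMap F K a + algebraMap F K b * μ⁻¹) := by rw [hg, one_mul]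
        _ = 1 := by linear_combination hd' + (algebraMap F K b) ^ 2 * mul_inv_cancel₀ h0
    have hb : algebraMap F K b * (μ - μ⁻¹) = 0 := by linear_combination hg - hinv
    have hne : μ - μ⁻¹ ≠ 0 := by
      intro he
      apply h2
      rw [sq]
      nth_rewrite 2 [sub_eq_zero.mp he]
      exact mul_inv_cancel₀ h0
    have hb0 : b = 0 := (map_eq_zero (algebraMap F K)).mp ((mul_eq_zero.mp hb).resolve_right hne)
    subst hb0
    have ha : a = 1 := (algebraMap F K).injective (by simpa using hg)
    subst ha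
    apply Subtype.ext
    apply Subtype.ext
    simpa using hab
  intro g g' hgg
  have : eigChar h h2 (g * g'⁻¹) = 1 := by
    rw [map_mul, hgg, ← map_mul, mul_inv_cancel, map_one]
  exact mul_inv_eq_one.mp (key _ this)

theorem orderOf_eq_orderOf_eigen {x : SL2} {μ : K} (h : IsEigen x μ) (h2 : μ ^ 2 ≠ 1) :
    orderOf x = orderOf μ := by
  have e := orderOf_injective (eigChar h h2) (eigChar_injective h h2)
    ⟨x, Subgroup.mem_centralizer_singleton_iff.mpr rfl⟩
  rw [eigChar_self, Subgroup.orderOf_mk] at e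
  exact e.symm

theorem isCyclic_of_le_centralizer {x : SL2} {μ : K} (h : IsEigen x μ) (h2 : μ ^ 2 ≠ 1)
    (H : Subgroup SL2) [Finite H] (hH : H ≤ Subgroup.centralizer {x}) : IsCyclic H :=
  isCyclic_of_injective_ringHom ((eigChar h h2).comp (Subgroup.inclusion hH))
    ((eigChar_injective h h2).comp (Subgroup.inclusion_injective hH))

end Eigen

theorem exists_isEigen (x : SL2) : ∃ μ : AlgebraicClosure F, IsEigen x μ := by
  obtain ⟨μ, hμ⟩ := IsAlgClosed.exists_root
    (Polynomial.X ^ 2 - Polynomial.C (algebraMap F (AlgebraicClosure F) (Matrix.trace (x : M2))) *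
      Polynomial.X + 1) (by
      intro hd
      have : (Polynomial.X ^ 2 - Polynomial.C (algebraMap F (AlgebraicClosure F)
          (Matrix.trace (x : M2))) * Polynomial.X + 1).coeff 2 = (0 : AlgebraicClosure F) :=
        Polynomial.coeff_eq_zero_of_degree_lt (by rw [hd]; norm_num)
      simp [Polynomial.coeff_one, Polynomial.coeff_X] at this)
  exact ⟨μ, by simpa [IsEigen] using hμ⟩

theorem pow_two_mul_char_eq_one (p : ℕ) [Fact p.Prime] [CharP F p] {K : Type*} [Field K]
    [Algebra F K] {x : SL2} {μ : K} (h : IsEigen x μ) (h2 : μ ^ 2 = 1) : x ^ (2 * p) = 1 := by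
  have hp : p.Prime := Fact.out
  obtain ⟨s, hs, ht⟩ : ∃ s : F, s ^ 2 = 1 ∧ Matrix.trace (x : M2) = s + s := by
    have h2' : μ * μ = 1 := by rw [← sq]; exact h2
    rcases mul_self_eq_one_iff.mp h2' with hm | hm
    · refine ⟨1, one_pow 2, (algebraMap F K).injective ?_⟩
      rw [h.trace_eq, hm]; simp
    · refine ⟨-1, by ring, (algebraMap F K).injective ?_⟩
      rw [h.trace_eq, hm]; simp [inv_neg]
  set N : M2 := (x : M2) - s • 1 with hN
  have hN2 : N * N = 0 := by
    rw [hN, Matrix.sub_mul, Matrix.mul_sub, Matrix.mul_sub, sl2_mul_self, ht]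
    have hss : s * s = 1 := by rw [← sq]; exact hs
    simp only [smul_mul_assoc, mul_smul_comm, one_mul, mul_one, smul_smul, hss, one_smul]
    module
  have hNp : N ^ p = 0 := by
    obtain ⟨m, hm⟩ : ∃ m, p = 2 + m := ⟨p - 2, by have := hp.two_le; omega⟩
    rw [hm, pow_add, sq, hN2, zero_mul]
  have hxp : (x : M2) ^ p = (s ^ p) • 1 := by
    have hc : Commute (x : M2) (s • 1 : M2) := (Commute.one_right _).smul_right s
    have := sub_pow_char_of_commute (p := p) hc
    rw [← hN, hNp, smul_pow, one_pow] at this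
    exact sub_eq_zero.mp this.symm
  apply Subtype.ext
  rw [Matrix.SpecialLinearGroup.coe_pow, mul_comm, pow_mul, hxp, smul_pow, one_pow, ← pow_mul,
    mul_comm p, pow_mul, hs, one_pow, one_smul, Matrix.SpecialLinearGroup.coe_one]

theorem IsEigen.pow_card [Fintype F] {K : Type*} [Field K] [Algebra F K] {x : SL2} {μ : K}
    (h : IsEigen x μ) :
    μ ^ Fintype.card F = μ ∨ μ ^ Fintype.card F = μ⁻¹ := by
  refine h.eq_or_eq_inv ?_
  have := congrArg (FiniteField.frobeniusAlgHom F K) (show _ = (0 : K) from h)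
  simp only [map_add, map_sub, map_mul, map_pow, map_one, map_zero, AlgHom.commutes,
    FiniteField.coe_frobeniusAlgHom] at this
  exact this

/-- Element orders in SL_2(q). -/
theorem orderOf_dvd_cases [Fintype F] (p : ℕ) [Fact p.Prime] [CharP F p] (x : SL2) :
    orderOf x ∣ Fintype.card F - 1 ∨ orderOf x ∣ Fintype.card F + 1 ∨ orderOf x ∣ 2 * p := by
  obtain ⟨μ, h⟩ := exists_isEigen x
  by_cases h2 : μ ^ 2 = 1
  · exact Or.inr (Or.inr (orderOf_dvd_of_pow_eq_one (pow_two_mul_char_eq_one p h h2)))
  · rw [orderOf_eq_orderOf_eigen h h2]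
    rcases h.pow_card with e | e
    · left
      apply orderOf_dvd_of_pow_eq_one
      apply mul_right_cancel₀ h.ne_zero
      rw [← pow_succ, Nat.sub_add_cancel Fintype.card_pos, e, one_mul]
    · right; left
      apply orderOf_dvd_of_pow_eq_one
      rw [pow_succ, e, inv_mul_cancel₀ h.ne_zero]

/-- A subgroup centralising an element whose order does not divide 2p is cyclic. -/
theorem isCyclic_of_le_centralizer_of_not_dvd [Finite F] (p : ℕ) [Fact p.Prime] [CharP F p]
    {x : SL2} (hx : ¬ orderOf x ∣ 2 * p) (H : Subgroup SL2)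
    (hH : H ≤ Subgroup.centralizer {x}) : IsCyclic H := by
  obtain ⟨μ, h⟩ := exists_isEigen x
  by_cases h2 : μ ^ 2 = 1
  · exact absurd (orderOf_dvd_of_pow_eq_one (pow_two_mul_char_eq_one p h h2)) hx
  · exact isCyclic_of_le_centralizer h h2 H hH

/-- The only element of order 2 is `-1`. -/
theorem eq_neg_one_of_mul_self (h2 : (2 : F) ≠ 0) {g : SL2} (h1 : g ≠ 1) (hg : g * g = 1) :
    (g : M2) = -1 := by
  have hinv : g⁻¹ = g := inv_eq_of_mul_eq_one_right hg
  have h' : Matrix.adjugate (g : M2) = (g : M2) := by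
    have := congrArg (fun z : SL2 => (z : M2)) hinv
    rwa [Matrix.SpecialLinearGroup.coe_inv] at this
  rw [Matrix.adjugate_fin_two] at h'
  have e00 := congrFun (congrFun h' 0) 0
  have e01 := congrFun (congrFun h' 0) 1
  have e10 := congrFun (congrFun h' 1) 0
  simp at e00 e01 e10
  have g01 : (g : M2) 0 1 = 0 := by
    have : (2 : F) * (g : M2) 0 1 = 0 := by linear_combination (-1) * e01
    exact (mul_eq_zero.mp this).resolve_left h2
  have g10 : (g : M2) 1 0 = 0 := by
    have : (2 : F) * (g : M2) 1 0 = 0 := by linear_combination (-1) * e10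
    exact (mul_eq_zero.mp this).resolve_left h2
  have hd := sl2_det g
  rw [g01, g10, e00] at hd
  simp at hd
  rcases mul_self_eq_one_iff.mp hd with h | h
  · exfalso
    apply h1
    apply Subtype.ext
    ext i j
    fin_cases i <;> fin_cases j <;> simp [g01, g10, h, e00]
  · ext i j
    fin_cases i <;> fin_cases j <;> simp [g01, g10, h, e00]

theorem two_ne_zero_of_odd_card [Fintype F] (hF : Odd (Fintype.card F)) : (2 : F) ≠ 0 := by
  apply Ring.two_ne_zero
  intro hc
  have := (FiniteField.even_card_iff_char_two (F := F)).mp hc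
  rw [Nat.odd_iff] at hF
  omega

/-- A finite abelian p'-subgroup of SL_2 is cyclic. -/
theorem isCyclic_of_comm_of_coprime [Finite F] (p : ℕ) [Fact p.Prime] [CharP F p]
    (A : Subgroup SL2) (hc : ∀ a ∈ A, ∀ b ∈ A, a * b = b * a) (hcop : (Nat.card A).Coprime p) :
    IsCyclic A := by
  by_cases hex : ∃ x ∈ A, ¬ orderOf x ∣ 2 * p
  · obtain ⟨x, hxA, hx⟩ := hex
    exact isCyclic_of_le_centralizer_of_not_dvd p hx A
      fun a ha => Subgroup.mem_centralizer_singleton_iff.mpr (hc a ha x hxA)
  · push Not at hex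
    have hsq : ∀ x ∈ A, x * x = 1 := by
      intro x hx
      have h1 : orderOf x ∣ Nat.card A := Subgroup.orderOf_mk x hx ▸ orderOf_dvd_natCard _
      have h2 : orderOf x ∣ 2 := (hcop.coprime_dvd_left h1).dvd_of_dvd_mul_right (hex x hx)
      rw [← sq]
      exact orderOf_dvd_iff_pow_eq_one.mp h2
    by_cases h2 : (2 : F) = 0
    · have hp2 : p = 2 := by
        have : p ∣ 2 := (CharP.cast_eq_zero_iff F p 2).mp (by exact_mod_cast h2)
        exact ((Nat.prime_dvd_prime_iff_eq Fact.out Nat.prime_two).mp this)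
      have : Subsingleton A := by
        refine ⟨fun a b => ?_⟩
        have key : ∀ x : A, x = 1 := fun x => by
          have h1 : orderOf (x : SL2) ∣ Nat.card A := Subgroup.orderOf_coe x ▸ orderOf_dvd_natCard _
          have h3 : orderOf (x : SL2) ∣ 2 :=
            orderOf_dvd_of_pow_eq_one (by rw [sq]; exact hsq x x.2)
          have : orderOf (x : SL2) = 1 :=
            Nat.eq_one_of_dvd_coprimes hcop h1 (hp2 ▸ h3)
          exact Subtype.ext (orderOf_eq_one_iff.mp this)
        rw [key a, key b]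
      infer_instance
    · have key : ∀ x ∈ A, x = 1 ∨ (x : M2) = -1 := fun x hx =>
        or_iff_not_imp_left.mpr fun h1 => eq_neg_one_of_mul_self h2 h1 (hsq x hx)
      let f : A →* F :=
        { toFun := fun a => ((a : SL2) : M2) 0 0
          map_one' := by simp
          map_mul' := fun a b => by
            rcases key a a.2 with ha | ha <;> rcases key b b.2 with hb | hb <;>
              simp [ha, hb] }
      refine isCyclic_of_injective_ringHom f ?_
      intro a b hab
      have h11 : (-1 : F) ≠ 1 := fun h => h2 (by linear_combination (-1) * h)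
      apply Subtype.ext
      rcases key a a.2 with ha | ha <;> rcases key b b.2 with hb | hb
      · rw [ha, hb]
      · exfalso; apply h11
        have : ((a : SL2) : M2) 0 0 = ((b : SL2) : M2) 0 0 := hab
        simpa [ha, hb] using this.symm
      · exfalso; apply h11
        have : ((a : SL2) : M2) 0 0 = ((b : SL2) : M2) 0 0 := hab
        simpa [ha, hb] using this
      · exact Subtype.ext (ha.trans hb.symm)

/-- For an odd prime r ≠ p every r-subgroup of SL_2 is cyclic. -/
theorem isCyclic_of_isPGroup [Finite F] (p : ℕ) [Fact p.Prime] [CharP F p] (r : ℕ) [Fact r.Prime]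
    (hr : r ≠ 2) (hrp : r ≠ p) (R : Subgroup SL2) (hR : IsPGroup r R) : IsCyclic R := by
  have hrP : r.Prime := Fact.out
  rcases subsingleton_or_nontrivial R with h | h
  · infer_instance
  · have := hR.center_nontrivial
    obtain ⟨z, hz1⟩ := exists_ne (1 : Subgroup.center R)
    refine isCyclic_of_le_centralizer_of_not_dvd p (x := ((z : R) : SL2)) ?_ R ?_
    · intro hd
      obtain ⟨k, hk⟩ := IsPGroup.iff_orderOf.mp hR (z : R)
      rw [Subgroup.orderOf_coe, hk] at hd
      rcases Nat.eq_zero_or_pos k with rfl | hk0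
      · rw [pow_zero, orderOf_eq_one_iff] at hk
        exact hz1 (Subtype.ext hk)
      · rcases hrP.dvd_mul.mp ((dvd_pow_self r hk0.ne').trans hd) with h | h
        · exact hr ((Nat.prime_dvd_prime_iff_eq hrP Nat.prime_two).mp h)
        · exact hrp ((Nat.prime_dvd_prime_iff_eq hrP Fact.out).mp h)
    · intro a ha
      rw [Subgroup.mem_centralizer_singleton_iff]
      exact congrArg Subtype.val (Subgroup.mem_center_iff.mp z.2 ⟨a, ha⟩)

/-- Every admissible eigenvalue is realised by an element of the same order. -/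
theorem exists_orderOf_eq_of_pow_card [Fintype F] {μ : AlgebraicClosure F} (h0 : μ ≠ 0)
    (h2 : μ ^ 2 ≠ 1) (hμ : μ ^ Fintype.card F = μ ∨ μ ^ Fintype.card F = μ⁻¹) :
    ∃ x : SL2, orderOf x = orderOf μ := by
  have hfix : (μ + μ⁻¹) ^ Fintype.card F = μ + μ⁻¹ := by
    have := map_add (FiniteField.frobeniusAlgHom F (AlgebraicClosure F)) μ μ⁻¹
    simp only [FiniteField.coe_frobeniusAlgHom] at this
    rw [this, inv_pow]
    rcases hμ with e | e
    · rw [e]
    · rw [e, inv_inv, add_comm]
  obtain ⟨t, ht⟩ : ∃ t : F, algebraMap F (AlgebraicClosure F) t = μ + μ⁻¹ := by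
    classical
    set q := Fintype.card F
    have hne : (Polynomial.X ^ q - Polynomial.X : Polynomial (AlgebraicClosure F)) ≠ 0 :=
      FiniteField.X_pow_card_sub_X_ne_zero _ Fintype.one_lt_card
    have hsub : (Finset.univ.image (algebraMap F (AlgebraicClosure F))).val ⊆
        (Polynomial.X ^ q - Polynomial.X : Polynomial (AlgebraicClosure F)).roots := by
      intro y hy
      rw [Finset.mem_val, Finset.mem_image] at hy
      obtain ⟨a, _, rfl⟩ := hy
      rw [Polynomial.mem_roots hne]
      simp [← map_pow, FiniteField.pow_card, q]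
    have hcard : (Polynomial.X ^ q - Polynomial.X : Polynomial (AlgebraicClosure F)).roots.card ≤
        (Finset.univ.image (algebraMap F (AlgebraicClosure F))).card := by
      rw [Finset.card_image_of_injective _ (algebraMap F (AlgebraicClosure F)).injective,
        Finset.card_univ]
      exact (Polynomial.card_roots' _).trans
        (FiniteField.X_pow_card_sub_X_natDegree_eq _ Fintype.one_lt_card).le
    have heq := Multiset.eq_of_le_of_card_le
      ((Multiset.le_iff_subset (Finset.nodup _)).mpr hsub) hcard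
    have hm : μ + μ⁻¹ ∈
        (Polynomial.X ^ q - Polynomial.X : Polynomial (AlgebraicClosure F)).roots := by
      rw [Polynomial.mem_roots hne]
      simp [hfix, q]
    rw [← heq, Finset.mem_val, Finset.mem_image] at hm
    obtain ⟨a, _, ha⟩ := hm
    exact ⟨a, ha⟩
  let x : SL2 := ⟨!![0, -1; 1, t], by simp [Matrix.det_fin_two]⟩
  have hx : IsEigen x μ := by
    show μ ^ 2 - algebraMap F _ (Matrix.trace (!![0, -1; 1, t] : M2)) * μ + 1 = 0
    rw [Matrix.trace_fin_two]
    simp [ht]
    field_simp
    ring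
  exact ⟨x, orderOf_eq_orderOf_eigen hx h2⟩

theorem exists_orderOf_eq_card_add_one [Fintype F] :
    ∃ x : SL2, orderOf x = Fintype.card F + 1 := by
  have : NeZero ((Fintype.card F + 1 : ℕ) : F) := ⟨by simp⟩
  obtain ⟨μ, hμ⟩ := HasEnoughRootsOfUnity.exists_primitiveRoot (AlgebraicClosure F)
    (Fintype.card F + 1)
  have h1 : 1 < Fintype.card F := Fintype.one_lt_card
  have ho : orderOf μ = Fintype.card F + 1 := hμ.eq_orderOf.symm
  obtain ⟨x, hx⟩ := exists_orderOf_eq_of_pow_card (hμ.ne_zero (by omega)) (fun h2 => by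
      have := Nat.le_of_dvd (by omega) (hμ.dvd_of_pow_eq_one 2 h2); omega)
    (Or.inr (eq_inv_of_mul_eq_one_left (by rw [← pow_succ]; exact hμ.pow_eq_one)))
  exact ⟨x, hx.trans ho⟩

theorem exists_orderOf_eq_card_sub_one [Fintype F] :
    ∃ x : SL2, orderOf x = Fintype.card F - 1 := by
  obtain ⟨u, hu⟩ := IsCyclic.exists_ofOrder_eq_natCard (α := Fˣ)
  let f : Fˣ →* SL2 :=
    { toFun := fun a => ⟨!![(a : F), 0; 0, ((a⁻¹ : Fˣ) : F)], by simp [Matrix.det_fin_two]⟩
      map_one' := by
        apply Subtype.ext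
        ext i j
        fin_cases i <;> fin_cases j <;> simp
      map_mul' := fun a b => by
        apply Subtype.ext
        show (!![((a * b : Fˣ) : F), 0; 0, (((a * b)⁻¹ : Fˣ) : F)] : M2) =
          !![(a : F), 0; 0, ((a⁻¹ : Fˣ) : F)] * !![(b : F), 0; 0, ((b⁻¹ : Fˣ) : F)]
        ext i j
        fin_cases i <;> fin_cases j <;> simp [mul_comm] }
  have hf : Function.Injective f := by
    intro a b hab
    exact Units.ext (congrFun (congrFun (congrArg (fun z : SL2 => (z : M2)) hab) 0) 0)
  refine ⟨f u, ?_⟩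
  rw [orderOf_injective f hf, hu, Nat.card_units, Nat.card_eq_fintype_card]

end Cfsg.Agent.Lib.Linear
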