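import Cfsg.Agent.Lib.Linear.Order
import Cfsg.Agent.Lib.Linear.Transvection

/-!
Upper unitriangular subgroups of GL_2 and SL_2: they are Sylow p-subgroups, their normalisers,
centralisers and intersections.
-/

namespace Cfsg.Agent.Lib.Linear

open Matrix
open scoped Pointwise

variable {F : Type*} [Field F]

/-- `t ↦ !![1, t; 0, 1]` into SL_2. -/
def uSL : Multiplicative F →* Matrix.SpecialLinearGroup (Fin 2) F where
  toFun t := Matrix.SpecialLinearGroup.transvection (zero_ne_one' (Fin 2)) t.toAdd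
  map_one' := Matrix.SpecialLinearGroup.transvection_coeff_zero _
  map_mul' _ _ := Matrix.SpecialLinearGroup.transvection_add _ _ _

/-- `t ↦ !![1, t; 0, 1]` into GL_2. -/
def uGL : Multiplicative F →* GL (Fin 2) F := Matrix.SpecialLinearGroup.toGL.comp uSL

theorem coe_uSL (t : Multiplicative F) :
    ((uSL t : Matrix.SpecialLinearGroup (Fin 2) F) : Matrix (Fin 2) (Fin 2) F) =
      !![1, t.toAdd; 0, 1] := by
  ext i j
  fin_cases i <;> fin_cases j <;> simp [uSL, Matrix.SpecialLinearGroup.transvection_coe]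

theorem coe_uGL (t : Multiplicative F) :
    ((uGL t : GL (Fin 2) F) : Matrix (Fin 2) (Fin 2) F) = !![1, t.toAdd; 0, 1] := coe_uSL t

theorem uSL_injective : Function.Injective (uSL (F := F)) := by
  intro a b h
  have := congrArg (fun g : Matrix.SpecialLinearGroup (Fin 2) F =>
    (g : Matrix (Fin 2) (Fin 2) F) 0 1) h
  simpa [coe_uSL] using this

theorem uGL_injective : Function.Injective (uGL (F := F)) :=
  Matrix.SpecialLinearGroup.toGL_injective.comp uSL_injective

theorem card_range_uSL : Nat.card (uSL (F := F)).range = Nat.card F := by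
  rw [← Nat.card_congr (MonoidHom.ofInjective (uSL_injective (F := F))).toEquiv]
  exact Nat.card_congr Multiplicative.toAdd

theorem card_range_uGL : Nat.card (uGL (F := F)).range = Nat.card F := by
  rw [← Nat.card_congr (MonoidHom.ofInjective (uGL_injective (F := F))).toEquiv]
  exact Nat.card_congr Multiplicative.toAdd

theorem exists_card_eq_pow [Fintype F] (p : ℕ) [Fact p.Prime] [CharP F p] :
    ∃ k, 0 < k ∧ Fintype.card F = p ^ k := by
  obtain ⟨n, _, hn⟩ := FiniteField.card F p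
  exact ⟨n, n.pos, hn⟩

theorem not_dvd_card_sub_one_mul [Fintype F] (p : ℕ) [Fact p.Prime] [CharP F p] (a b : ℕ) :
    ¬ p ∣ (Fintype.card F - 1) ^ a * (Fintype.card F + 1) ^ b := by
  have hp : p.Prime := Fact.out
  obtain ⟨k, hk, hq⟩ := exists_card_eq_pow (F := F) p
  have hdvd : p ∣ Fintype.card F := hq ▸ dvd_pow_self p hk.ne'
  intro h
  rcases hp.dvd_mul.mp h with h | h
  · have h' := Nat.dvd_sub hdvd (hp.dvd_of_dvd_pow h)
    rw [show Fintype.card F - (Fintype.card F - 1) = 1 from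
      Nat.sub_sub_self Fintype.card_pos] at h'
    exact hp.one_lt.ne' (Nat.dvd_one.mp h')
  · exact hp.one_lt.ne' (Nat.dvd_one.mp ((Nat.dvd_add_iff_right hdvd).mpr (hp.dvd_of_dvd_pow h)))

theorem factorization_card_GL_two [Fintype F] (p : ℕ) [Fact p.Prime] [CharP F p] :
    p ^ (Nat.card (GL (Fin 2) F)).factorization p = Fintype.card F := by
  have hp : p.Prime := Fact.out
  obtain ⟨k, _, hq⟩ := exists_card_eq_pow (F := F) p
  have hm := not_dvd_card_sub_one_mul (F := F) p 2 1
  have hm0 : (Fintype.card F - 1) ^ 2 * (Fintype.card F + 1) ^ 1 ≠ 0 :=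
    fun h => hm (h ▸ dvd_zero p)
  rw [pow_one] at hm hm0
  rw [card_GL_two, mul_assoc, Nat.factorization_mul Fintype.card_ne_zero hm0,
    Finsupp.add_apply, Nat.factorization_eq_zero_of_not_dvd hm, add_zero, hq,
    Nat.factorization_pow, Finsupp.smul_apply, hp.factorization_self, smul_eq_mul, mul_one]

theorem factorization_card_SL_two [Fintype F] (p : ℕ) [Fact p.Prime] [CharP F p] :
    p ^ (Nat.card (Matrix.SpecialLinearGroup (Fin 2) F)).factorization p = Fintype.card F := by
  have hp : p.Prime := Fact.out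
  obtain ⟨k, _, hq⟩ := exists_card_eq_pow (F := F) p
  have hm := not_dvd_card_sub_one_mul (F := F) p 1 1
  have hm0 : (Fintype.card F - 1) ^ 1 * (Fintype.card F + 1) ^ 1 ≠ 0 :=
    fun h => hm (h ▸ dvd_zero p)
  rw [pow_one, pow_one] at hm hm0
  rw [card_SL_two, mul_assoc, Nat.factorization_mul Fintype.card_ne_zero hm0,
    Finsupp.add_apply, Nat.factorization_eq_zero_of_not_dvd hm, add_zero, hq,
    Nat.factorization_pow, Finsupp.smul_apply, hp.factorization_self, smul_eq_mul, mul_one]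

/-- The upper unitriangular Sylow p-subgroup of GL_2. -/
noncomputable def sylowU_GL [Fintype F] (p : ℕ) [Fact p.Prime] [CharP F p] :
    Sylow p (GL (Fin 2) F) :=
  Sylow.ofCard (uGL (F := F)).range (by
    rw [card_range_uGL, factorization_card_GL_two, Nat.card_eq_fintype_card])

/-- The upper unitriangular Sylow p-subgroup of SL_2. -/
noncomputable def sylowU_SL [Fintype F] (p : ℕ) [Fact p.Prime] [CharP F p] :
    Sylow p (Matrix.SpecialLinearGroup (Fin 2) F) :=
  Sylow.ofCard (uSL (F := F)).range (by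
    rw [card_range_uSL, factorization_card_SL_two, Nat.card_eq_fintype_card])

theorem exists_sylow_eq_conj_GL [Fintype F] (p : ℕ) [Fact p.Prime] [CharP F p]
    (P : Sylow p (GL (Fin 2) F)) :
    ∃ g : GL (Fin 2) F, (P : Subgroup (GL (Fin 2) F)) = MulAut.conj g • (uGL (F := F)).range := by
  obtain ⟨g, hg⟩ := MulAction.exists_smul_eq (GL (Fin 2) F) (sylowU_GL p) P
  exact ⟨g, by rw [← hg, Sylow.coe_subgroup_smul]; rfl⟩

theorem exists_sylow_eq_conj_SL [Fintype F] (p : ℕ) [Fact p.Prime] [CharP F p]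
    (P : Sylow p (Matrix.SpecialLinearGroup (Fin 2) F)) :
    ∃ g : Matrix.SpecialLinearGroup (Fin 2) F,
      (P : Subgroup (Matrix.SpecialLinearGroup (Fin 2) F)) =
        MulAut.conj g • (uSL (F := F)).range := by
  obtain ⟨g, hg⟩ := MulAction.exists_smul_eq (Matrix.SpecialLinearGroup (Fin 2) F) (sylowU_SL p) P
  exact ⟨g, by rw [← hg, Sylow.coe_subgroup_smul]; rfl⟩

/-- `T_s k = k T_t` with `(s,t) ≠ 0` forces `k` upper triangular. -/
theorem upper_of_uGL_mul_eq {k : GL (Fin 2) F} {s t : Multiplicative F}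
    (h : uGL s * k = k * uGL t) (hne : s ≠ 1 ∨ t ≠ 1) :
    (k : Matrix (Fin 2) (Fin 2) F) 1 0 = 0 := by
  have h' := congrArg Units.val h
  simp only [GeneralLinearGroup.coe_mul, coe_uGL] at h'
  have h00 := congrFun (congrFun h' 0) 0
  have h11 := congrFun (congrFun h' 1) 1
  simp [Matrix.mul_apply, Fin.sum_univ_two] at h00 h11
  rcases hne with hne | hne
  · exact h00.resolve_left (fun h0 => hne (by simpa using h0))
  · exact h11.resolve_right (fun h0 => hne (by simpa using h0))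

theorem upper_of_uSL_mul_eq {k : Matrix.SpecialLinearGroup (Fin 2) F} {s t : Multiplicative F}
    (h : uSL s * k = k * uSL t) (hne : s ≠ 1 ∨ t ≠ 1) :
    (k : Matrix (Fin 2) (Fin 2) F) 1 0 = 0 :=
  upper_of_uGL_mul_eq (k := Matrix.SpecialLinearGroup.toGL k)
    (by rw [uGL, MonoidHom.comp_apply, MonoidHom.comp_apply, ← map_mul, h, map_mul]) hne

theorem upper_apply_ne_zero {k : GL (Fin 2) F} (hk : (k : Matrix (Fin 2) (Fin 2) F) 1 0 = 0) :
    (k : Matrix (Fin 2) (Fin 2) F) 0 0 ≠ 0 ∧ (k : Matrix (Fin 2) (Fin 2) F) 1 1 ≠ 0 := by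
  have := GeneralLinearGroup.det_ne_zero k
  rw [Matrix.det_fin_two, hk, mul_zero, sub_zero] at this
  exact mul_ne_zero_iff.mp this

/-- upper triangular matrices normalise U -/
theorem upper_mul_uGL {k : GL (Fin 2) F} (hk : (k : Matrix (Fin 2) (Fin 2) F) 1 0 = 0)
    (t : Multiplicative F) :
    k * uGL t = uGL (Multiplicative.ofAdd ((k : Matrix (Fin 2) (Fin 2) F) 0 0 * t.toAdd /
      (k : Matrix (Fin 2) (Fin 2) F) 1 1)) * k := by
  obtain ⟨_, h1⟩ := upper_apply_ne_zero hk
  apply Units.ext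
  ext i j
  simp only [GeneralLinearGroup.coe_mul, coe_uGL, toAdd_ofAdd]
  fin_cases i <;> fin_cases j <;>
    simp [Matrix.mul_apply, Fin.sum_univ_two, hk, div_mul_cancel₀ _ h1, add_comm]

theorem mem_normalizer_uGL_iff [Finite F] (k : GL (Fin 2) F) :
    k ∈ Subgroup.normalizer (((uGL (F := F)).range : Subgroup (GL (Fin 2) F)) : Set (GL (Fin 2) F))
      ↔ (k : Matrix (Fin 2) (Fin 2) F) 1 0 = 0 := by
  constructor
  · intro h
    obtain ⟨s, hs⟩ := (Subgroup.mem_normalizer_iff.mp h (uGL (Multiplicative.ofAdd 1))).mp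
      ⟨_, rfl⟩
    refine upper_of_uGL_mul_eq (s := s) (t := Multiplicative.ofAdd 1) ?_ (Or.inr ?_)
    · rw [hs]; group
    · exact fun h => one_ne_zero (α := F) (congrArg Multiplicative.toAdd h)
  · intro hk
    rw [Subgroup.mem_normalizer_iff]
    obtain ⟨h0, h1⟩ := upper_apply_ne_zero hk
    intro x
    constructor
    · rintro ⟨t, rfl⟩
      rw [upper_mul_uGL hk, mul_inv_cancel_right]
      exact ⟨_, rfl⟩
    · rintro ⟨s, hs⟩
      refine ⟨Multiplicative.ofAdd ((k : Matrix (Fin 2) (Fin 2) F) 1 1 * s.toAdd /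
        (k : Matrix (Fin 2) (Fin 2) F) 0 0), ?_⟩
      have h2 := upper_mul_uGL hk (Multiplicative.ofAdd ((k : Matrix (Fin 2) (Fin 2) F) 1 1 *
        s.toAdd / (k : Matrix (Fin 2) (Fin 2) F) 0 0))
      rw [toAdd_ofAdd] at h2
      rw [show (k : Matrix (Fin 2) (Fin 2) F) 0 0 * ((k : Matrix (Fin 2) (Fin 2) F) 1 1 * s.toAdd /
          (k : Matrix (Fin 2) (Fin 2) F) 0 0) / (k : Matrix (Fin 2) (Fin 2) F) 1 1 = s.toAdd by
        field_simp, ofAdd_toAdd, hs] at h2
      apply mul_left_cancel (a := k)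
      rw [h2]; group

theorem card_upper_GL [Fintype F] :
    Nat.card {k : GL (Fin 2) F // (k : Matrix (Fin 2) (Fin 2) F) 1 0 = 0} =
      Fintype.card F * (Fintype.card F - 1) ^ 2 := by
  have e : {k : GL (Fin 2) F // (k : Matrix (Fin 2) (Fin 2) F) 1 0 = 0} ≃ F × Fˣ × Fˣ :=
    { toFun := fun k => ((k.1 : Matrix (Fin 2) (Fin 2) F) 0 1,
        Units.mk0 _ (upper_apply_ne_zero k.2).1, Units.mk0 _ (upper_apply_ne_zero k.2).2)
      invFun := fun x => ⟨GeneralLinearGroup.mkOfDetNeZero !![(x.2.1 : F), x.1; 0, (x.2.2 : F)]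
        (by simp [Matrix.det_fin_two]), by
          simp [GeneralLinearGroup.val_mkOfDetNeZero]⟩
      left_inv := fun k => by
        apply Subtype.ext
        apply GeneralLinearGroup.ext
        intro i j
        fin_cases i <;> fin_cases j <;> simp [GeneralLinearGroup.val_mkOfDetNeZero, k.2]
      right_inv := fun x => by
        refine Prod.ext ?_ (Prod.ext (Units.ext ?_) (Units.ext ?_)) <;>
          simp [GeneralLinearGroup.val_mkOfDetNeZero] }
  rw [Nat.card_congr e, Nat.card_prod, Nat.card_prod, Nat.card_units, Nat.card_eq_fintype_card,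
    sq]

theorem card_normalizer_uGL [Fintype F] :
    Nat.card (Subgroup.normalizer
      (((uGL (F := F)).range : Subgroup (GL (Fin 2) F)) : Set (GL (Fin 2) F))) =
      Fintype.card F * (Fintype.card F - 1) ^ 2 := by
  rw [← card_upper_GL]
  exact Nat.card_congr (Equiv.subtypeEquivRight mem_normalizer_uGL_iff)

theorem mem_centralizer_uGL_iff {s : Multiplicative F} (hs : s ≠ 1) (k : GL (Fin 2) F) :
    k ∈ Subgroup.centralizer ({uGL s} : Set (GL (Fin 2) F)) ↔
      (k : Matrix (Fin 2) (Fin 2) F) 1 0 = 0 ∧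
        (k : Matrix (Fin 2) (Fin 2) F) 0 0 = (k : Matrix (Fin 2) (Fin 2) F) 1 1 := by
  rw [Subgroup.mem_centralizer_singleton_iff]
  constructor
  · intro h
    have h' : uGL s * k = k * uGL s := h.symm
    have hk := upper_of_uGL_mul_eq h' (Or.inl hs)
    refine ⟨hk, ?_⟩
    obtain ⟨_, h1⟩ := upper_apply_ne_zero hk
    rw [upper_mul_uGL hk, mul_left_inj] at h'
    have := congrArg Multiplicative.toAdd (uGL_injective h')
    rw [toAdd_ofAdd, eq_div_iff h1, mul_comm] at this
    have hs' : s.toAdd ≠ 0 := fun h0 => hs (by simpa using h0)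
    exact (mul_right_cancel₀ hs' this).symm
  · rintro ⟨hk, he⟩
    obtain ⟨_, h1⟩ := upper_apply_ne_zero hk
    rw [upper_mul_uGL hk, he, mul_div_cancel_left₀ _ h1, ofAdd_toAdd]

theorem card_centralizer_uGL [Fintype F] {s : Multiplicative F} (hs : s ≠ 1) :
    Nat.card (Subgroup.centralizer ({uGL s} : Set (GL (Fin 2) F))) =
      Fintype.card F * (Fintype.card F - 1) := by
  have e : {k : GL (Fin 2) F // (k : Matrix (Fin 2) (Fin 2) F) 1 0 = 0 ∧
      (k : Matrix (Fin 2) (Fin 2) F) 0 0 = (k : Matrix (Fin 2) (Fin 2) F) 1 1} ≃ F × Fˣ :=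
    { toFun := fun k => ((k.1 : Matrix (Fin 2) (Fin 2) F) 0 1,
        Units.mk0 _ (upper_apply_ne_zero k.2.1).1)
      invFun := fun x => ⟨GeneralLinearGroup.mkOfDetNeZero !![(x.2 : F), x.1; 0, (x.2 : F)]
        (by simp [Matrix.det_fin_two]), by
          simp [GeneralLinearGroup.val_mkOfDetNeZero]⟩
      left_inv := fun k => by
        apply Subtype.ext
        apply GeneralLinearGroup.ext
        intro i j
        fin_cases i <;> fin_cases j <;>
          simp [GeneralLinearGroup.val_mkOfDetNeZero, k.2.1, ← k.2.2]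
      right_inv := fun x => by
        refine Prod.ext ?_ (Units.ext ?_) <;> simp [GeneralLinearGroup.val_mkOfDetNeZero] }
  rw [Nat.card_congr ((Equiv.subtypeEquivRight (mem_centralizer_uGL_iff hs)).trans e),
    Nat.card_prod, Nat.card_units, Nat.card_eq_fintype_card]

theorem sylow_inf_eq_bot_GL [Fintype F] (p : ℕ) [Fact p.Prime] [CharP F p]
    {P Q : Sylow p (GL (Fin 2) F)} (h : P ≠ Q) :
    (P : Subgroup (GL (Fin 2) F)) ⊓ (Q : Subgroup (GL (Fin 2) F)) = ⊥ := by
  obtain ⟨g, hg⟩ := exists_sylow_eq_conj_GL p P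
  obtain ⟨g', hg'⟩ := exists_sylow_eq_conj_GL p Q
  rw [eq_bot_iff]
  intro a haa
  obtain ⟨ha, ha'⟩ := Subgroup.mem_inf.mp haa
  rw [Subgroup.mem_bot]
  by_contra hne
  apply h
  rw [hg, Subgroup.mem_pointwise_smul_iff_inv_smul_mem] at ha
  rw [hg', Subgroup.mem_pointwise_smul_iff_inv_smul_mem] at ha'
  obtain ⟨s, hs⟩ := ha
  obtain ⟨t, ht⟩ := ha'
  simp only [MulAut.smul_def, MulAut.inv_apply, MulAut.conj_symm_apply] at hs ht
  have hk : ((g⁻¹ * g' : GL (Fin 2) F) : Matrix (Fin 2) (Fin 2) F) 1 0 = 0 := by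
    refine upper_of_uGL_mul_eq (s := s) (t := t) (by rw [hs, ht]; group) (Or.inl ?_)
    rintro rfl
    apply hne
    rw [map_one] at hs
    calc a = g * (g⁻¹ * a * g) * g⁻¹ := by group
      _ = 1 := by rw [← hs]; group
  apply Sylow.ext
  rw [hg, hg']
  have hfix : MulAut.conj (g⁻¹ * g') • (uGL (F := F)).range = (uGL (F := F)).range := by
    ext x
    rw [Subgroup.mem_pointwise_smul_iff_inv_smul_mem, MulAut.smul_def, MulAut.inv_apply,
      MulAut.conj_symm_apply,
      Subgroup.mem_normalizer_iff.mp ((mem_normalizer_uGL_iff (g⁻¹ * g')).mpr hk)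
        ((g⁻¹ * g')⁻¹ * x * (g⁻¹ * g')),
      show g⁻¹ * g' * ((g⁻¹ * g')⁻¹ * x * (g⁻¹ * g')) * (g⁻¹ * g')⁻¹ = x by group]
  calc MulAut.conj g • (uGL (F := F)).range
      = MulAut.conj g • MulAut.conj (g⁻¹ * g') • (uGL (F := F)).range := by rw [hfix]
    _ = MulAut.conj g' • (uGL (F := F)).range := by rw [smul_smul, ← map_mul, mul_inv_cancel_left]

/-- SL_2 is generated by U and any conjugate by a non-triangular element. -/
theorem uSL_sup_conj_eq_top {k : Matrix.SpecialLinearGroup (Fin 2) F}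
    (hk : (k : Matrix (Fin 2) (Fin 2) F) 1 0 ≠ 0) :
    (uSL (F := F)).range ⊔ MulAut.conj k • (uSL (F := F)).range = ⊤ := by
  refine sl_eq_top_of_transvection_mem _ fun i j hij c => ?_
  match i, j, hij with
  | 0, 0, hij => exact absurd rfl hij
  | 1, 1, hij => exact absurd rfl hij
  | 0, 1, _ => exact Subgroup.mem_sup_left ⟨Multiplicative.ofAdd c, rfl⟩
  | 1, 0, hij =>
    set r : F := (k : Matrix (Fin 2) (Fin 2) F) 1 0 with hr
    set x : F := (k : Matrix (Fin 2) (Fin 2) F) 0 0 / r with hx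
    set b : Matrix.SpecialLinearGroup (Fin 2) F := uSL (Multiplicative.ofAdd x) with hb
    set u : Matrix.SpecialLinearGroup (Fin 2) F :=
      uSL (Multiplicative.ofAdd (-c / r ^ 2)) with hu
    have key : Matrix.SpecialLinearGroup.transvection hij c = b⁻¹ * (k * u * k⁻¹) * b := by
      rw [show b⁻¹ * (k * u * k⁻¹) * b = (b⁻¹ * k) * u * (b⁻¹ * k)⁻¹ by group,
        eq_mul_inv_iff_mul_eq]
      rw [hb, hu, ← map_inv]
      apply Subtype.ext
      have hdet : (k : Matrix (Fin 2) (Fin 2) F) 0 0 * (k : Matrix (Fin 2) (Fin 2) F) 1 1 -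
          (k : Matrix (Fin 2) (Fin 2) F) 0 1 * r = 1 := by
        rw [hr, ← Matrix.det_fin_two]; exact k.2
      have ht : ((Matrix.SpecialLinearGroup.transvection hij c :
          Matrix.SpecialLinearGroup (Fin 2) F) : Matrix (Fin 2) (Fin 2) F) = !![1, 0; c, 1] := by
        ext i' j'
        fin_cases i' <;> fin_cases j' <;> simp [Matrix.SpecialLinearGroup.transvection_coe]
      simp only [Matrix.SpecialLinearGroup.coe_mul, coe_uSL, ht]
      rw [Matrix.eta_fin_two (k : Matrix (Fin 2) (Fin 2) F), ← hr]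
      ext i' j'
      fin_cases i' <;> fin_cases j' <;> simp [hx]
      all_goals field_simp
      · exact Or.inl (by ring)
      · exact Or.inr (by ring)
      · linear_combination (-c) * hdet
    rw [key]
    have hbm : b ∈ (uSL (F := F)).range ⊔ MulAut.conj k • (uSL (F := F)).range :=
      Subgroup.mem_sup_left ⟨_, rfl⟩
    refine Subgroup.mul_mem _ (Subgroup.mul_mem _ (Subgroup.inv_mem _ hbm) ?_) hbm
    exact Subgroup.mem_sup_right (Subgroup.smul_mem_pointwise_smul u (MulAut.conj k) _ ⟨_, rfl⟩)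

theorem upper_conj_uSL {k : Matrix.SpecialLinearGroup (Fin 2) F}
    (hk : (k : Matrix (Fin 2) (Fin 2) F) 1 0 = 0) :
    MulAut.conj k • (uSL (F := F)).range = (uSL (F := F)).range := by
  have main : ∀ l : Matrix.SpecialLinearGroup (Fin 2) F,
      (l : Matrix (Fin 2) (Fin 2) F) 1 0 = 0 →
      ∀ x ∈ (uSL (F := F)).range, l * x * l⁻¹ ∈ (uSL (F := F)).range := by
    rintro l hl _ ⟨t, rfl⟩
    refine ⟨Multiplicative.ofAdd ((l : Matrix (Fin 2) (Fin 2) F) 0 0 * t.toAdd /
      (l : Matrix (Fin 2) (Fin 2) F) 1 1), ?_⟩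
    rw [eq_mul_inv_iff_mul_eq]
    apply Matrix.SpecialLinearGroup.toGL_injective
    rw [map_mul, map_mul]
    exact (upper_mul_uGL (k := Matrix.SpecialLinearGroup.toGL l) hl t).symm
  have hk' : ((k⁻¹ : Matrix.SpecialLinearGroup (Fin 2) F) : Matrix (Fin 2) (Fin 2) F) 1 0 = 0 := by
    simp [Matrix.adjugate_fin_two, hk]
  ext x
  rw [Subgroup.mem_pointwise_smul_iff_inv_smul_mem, MulAut.smul_def, MulAut.inv_apply,
    MulAut.conj_symm_apply]
  constructor
  · intro hx
    simpa [mul_assoc] using main k hk _ hx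
  · intro hx
    simpa [mul_assoc] using main k⁻¹ hk' _ hx

theorem sylow_sup_eq_top_SL [Fintype F] (p : ℕ) [Fact p.Prime] [CharP F p]
    {P Q : Sylow p (Matrix.SpecialLinearGroup (Fin 2) F)} (h : P ≠ Q) :
    (P : Subgroup (Matrix.SpecialLinearGroup (Fin 2) F)) ⊔
      (Q : Subgroup (Matrix.SpecialLinearGroup (Fin 2) F)) = ⊤ := by
  obtain ⟨g, hg⟩ := exists_sylow_eq_conj_SL p P
  obtain ⟨g', hg'⟩ := exists_sylow_eq_conj_SL p Q
  have hk : ((g⁻¹ * g' : Matrix.SpecialLinearGroup (Fin 2) F) :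
      Matrix (Fin 2) (Fin 2) F) 1 0 ≠ 0 := by
    intro hk
    apply h
    apply Sylow.ext
    rw [hg, hg', ← mul_inv_cancel_left g g', map_mul, ← smul_smul, upper_conj_uSL hk]
  have := uSL_sup_conj_eq_top hk
  rw [hg, hg']
  have h2 : MulAut.conj g • ((uSL (F := F)).range ⊔
      MulAut.conj (g⁻¹ * g') • (uSL (F := F)).range) =
      MulAut.conj g • (⊤ : Subgroup (Matrix.SpecialLinearGroup (Fin 2) F)) := by rw [this]
  rw [Subgroup.smul_sup, smul_smul, ← map_mul, mul_inv_cancel_left] at h2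
  rw [h2, eq_top_iff]
  intro x _
  rw [Subgroup.mem_pointwise_smul_iff_inv_smul_mem]
  trivial

end Cfsg.Agent.Lib.Linear

namespace Cfsg.Agent.Lib.Linear

open Matrix
open scoped Pointwise

variable {F : Type*} [Field F]

theorem card_centralizer_conj {G : Type*} [Group G] (g u : G) :
    Nat.card (Subgroup.centralizer ({g * u * g⁻¹} : Set G)) =
      Nat.card (Subgroup.centralizer ({u} : Set G)) := by
  refine (Nat.card_congr (Equiv.subtypeEquiv (MulAut.conj g).toEquiv fun a => ?_)).symm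
  change a ∈ _ ↔ g * a * g⁻¹ ∈ _
  rw [Subgroup.mem_centralizer_singleton_iff, Subgroup.mem_centralizer_singleton_iff]
  constructor
  · intro h
    calc g * a * g⁻¹ * (g * u * g⁻¹) = g * (a * u) * g⁻¹ := by group
      _ = g * (u * a) * g⁻¹ := by rw [h]
      _ = g * u * g⁻¹ * (g * a * g⁻¹) := by group
  · intro h
    calc a * u = g⁻¹ * (g * a * g⁻¹ * (g * u * g⁻¹)) * g := by group
      _ = g⁻¹ * (g * u * g⁻¹ * (g * a * g⁻¹)) * g := by rw [h]
      _ = u * a := by group

/-- The centraliser of a nontrivial p-element of GL_2. -/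
theorem card_centralizer_of_mem_sylow_GL [Fintype F] (p : ℕ) [Fact p.Prime] [CharP F p]
    {P : Sylow p (GL (Fin 2) F)} {a : GL (Fin 2) F} (ha : a ∈ (P : Subgroup (GL (Fin 2) F)))
    (ha1 : a ≠ 1) :
    Nat.card (Subgroup.centralizer ({a} : Set (GL (Fin 2) F))) =
      Fintype.card F * (Fintype.card F - 1) := by
  obtain ⟨g, hg⟩ := exists_sylow_eq_conj_GL p P
  rw [hg, Subgroup.mem_pointwise_smul_iff_inv_smul_mem] at ha
  obtain ⟨s, hs⟩ := ha
  simp only [MulAut.smul_def, MulAut.inv_apply, MulAut.conj_symm_apply] at hs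
  have e : a = g * uGL s * g⁻¹ := by rw [hs]; group
  subst e
  rw [card_centralizer_conj, card_centralizer_uGL]
  rintro rfl
  apply ha1
  rw [map_one]; group

/-- The number of Sylow p-subgroups of GL_2(q) is q+1. -/
theorem card_sylow_GL_two [Fintype F] (p : ℕ) [Fact p.Prime] [CharP F p] :
    Nat.card (Sylow p (GL (Fin 2) F)) = Fintype.card F + 1 := by
  have h := Subgroup.card_mul_index
    (Subgroup.normalizer (((sylowU_GL (F := F) p : Sylow p (GL (Fin 2) F)) :
      Subgroup (GL (Fin 2) F)) : Set (GL (Fin 2) F)))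
  have hn : Nat.card (Sylow p (GL (Fin 2) F)) = (Subgroup.normalizer
      (((sylowU_GL (F := F) p : Sylow p (GL (Fin 2) F)) :
        Subgroup (GL (Fin 2) F)) : Set (GL (Fin 2) F))).index :=
    (sylowU_GL (F := F) p).card_eq_index_normalizer
  rw [← hn, card_GL_two] at h
  rw [show ((sylowU_GL (F := F) p : Sylow p (GL (Fin 2) F)) : Subgroup (GL (Fin 2) F)) =
    (uGL (F := F)).range from rfl, card_normalizer_uGL] at h
  refine Nat.eq_of_mul_eq_mul_left ?_ h
  have h2 : 1 < Fintype.card F := Fintype.one_lt_card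
  exact Nat.mul_pos Fintype.card_pos (pow_pos (by omega) 2)

theorem card_normalizer_sylow_GL_two [Fintype F] (p : ℕ) [Fact p.Prime] [CharP F p]
    (P : Sylow p (GL (Fin 2) F)) :
    Nat.card (Subgroup.normalizer
      ((P : Subgroup (GL (Fin 2) F)) : Set (GL (Fin 2) F))) =
      Fintype.card F * (Fintype.card F - 1) ^ 2 := by
  have h := Subgroup.card_mul_index
    (Subgroup.normalizer ((P : Subgroup (GL (Fin 2) F)) : Set (GL (Fin 2) F)))
  have hn : Nat.card (Sylow p (GL (Fin 2) F)) = (Subgroup.normalizer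
      ((P : Subgroup (GL (Fin 2) F)) : Set (GL (Fin 2) F))).index :=
    P.card_eq_index_normalizer
  rw [← hn, card_sylow_GL_two, card_GL_two] at h
  exact Nat.eq_of_mul_eq_mul_right (Nat.succ_pos _) h

theorem factorization_card_GL [Fintype F] (p : ℕ) [Fact p.Prime] [CharP F p] (n : ℕ) :
    p ^ (Nat.card (GL (Fin n) F)).factorization p = Fintype.card F ^ (n * (n - 1) / 2) := by
  have hp : p.Prime := Fact.out
  obtain ⟨k, hk, hq⟩ := exists_card_eq_pow (F := F) p
  have hq1 : 1 < Fintype.card F := Fintype.one_lt_card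
  have e : ∀ i : Fin n, Fintype.card F ^ n - Fintype.card F ^ (i : ℕ) =
      Fintype.card F ^ (i : ℕ) * (Fintype.card F ^ (n - (i : ℕ)) - 1) := fun i => by
    rw [Nat.mul_sub, mul_one, ← pow_add, Nat.add_sub_cancel' i.2.le]
  have hnd : ∀ i : Fin n, ¬ p ∣ Fintype.card F ^ (n - (i : ℕ)) - 1 := fun i h => by
    have hdvd : p ∣ Fintype.card F ^ (n - (i : ℕ)) :=
      dvd_pow (hq ▸ dvd_pow_self p hk.ne') (by omega)
    have h' := Nat.dvd_sub hdvd h
    rw [Nat.sub_sub_self (Nat.one_le_pow _ _ Fintype.card_pos)] at h'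
    exact hp.one_lt.ne' (Nat.dvd_one.mp h')
  have hprod : ¬ p ∣ ∏ i : Fin n, (Fintype.card F ^ (n - (i : ℕ)) - 1) := by
    rw [hp.prime.dvd_finsetProd_iff]
    rintro ⟨i, _, h⟩
    exact hnd i h
  have hprod0 : ∏ i : Fin n, (Fintype.card F ^ (n - (i : ℕ)) - 1) ≠ 0 := by
    intro h
    rw [h] at hprod
    exact hprod (dvd_zero p)
  rw [Matrix.card_GL_field, Finset.prod_congr rfl (fun i _ => e i), Finset.prod_mul_distrib,
    Finset.prod_pow_eq_pow_sum, Fin.sum_univ_eq_sum_range (fun i => i), Finset.sum_range_id,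
    Nat.factorization_mul (pow_ne_zero _ Fintype.card_ne_zero) hprod0,
    Finsupp.add_apply, Nat.factorization_eq_zero_of_not_dvd hprod, add_zero, hq, ← pow_mul,
    Nat.factorization_pow, Finsupp.smul_apply, hp.factorization_self, smul_eq_mul, mul_one,
    pow_mul]

end Cfsg.Agent.Lib.Linear
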