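import Cfsg.Agent.Lib.AutPSL.Sylow
import Cfsg.Agent.Lib.Linear.Transvection
import Cfsg.Agent.Lib.FusionSystem.Group
import Cfsg.Agent.Lib.FusionAlperin.Simple

/-!
Facts about the upper unitriangular Sylow subgroup of `PSL_n`, used for the simplicity of its
fusion system in defining characteristic.
-/

set_option autoImplicit false

namespace Cfsg.Agent.Lib.Linear.FusionPSL

open Matrix Cfsg.Agent.Lib.AutPSL
open scoped Pointwise

variable {n : ℕ} {F : Type*} [Field F]

local notation "SLn" => Matrix.SpecialLinearGroup (Fin n) F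
local notation "PSLn" => Matrix.ProjectiveSpecialLinearGroup (Fin n) F
local notation "Mat" => Matrix (Fin n) (Fin n) F

theorem conj_tv (s : SLn) {v f : Fin n → F} (h : f ⬝ᵥ v = 0) :
    s * tv v f * s⁻¹ = tv ((s : Mat) *ᵥ v) (f ᵥ* ((s⁻¹ : SLn) : Mat)) := by
  have h1 : ((s⁻¹ : SLn) : Mat) * (s : Mat) = 1 := by
    rw [← Matrix.SpecialLinearGroup.coe_mul, inv_mul_cancel, Matrix.SpecialLinearGroup.coe_one]
  have h2 : (s : Mat) * ((s⁻¹ : SLn) : Mat) = 1 := by
    rw [← Matrix.SpecialLinearGroup.coe_mul, mul_inv_cancel, Matrix.SpecialLinearGroup.coe_one]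
  have h' : (f ᵥ* ((s⁻¹ : SLn) : Mat)) ⬝ᵥ ((s : Mat) *ᵥ v) = 0 := by
    rw [← dotProduct_mulVec, mulVec_mulVec, h1, one_mulVec, h]
  apply Subtype.ext
  rw [Matrix.SpecialLinearGroup.coe_mul, Matrix.SpecialLinearGroup.coe_mul, coe_tv h, coe_tv h',
    Matrix.mul_add, Matrix.add_mul, Matrix.mul_one, h2, mul_vecMulVec, vecMulVec_mul]

/-- The transvection `1 + t E_ij` is unitriangular for `i < j`. -/
theorem tv_single_mem_uni [Finite F] {i : Fin n} {w : Fin n → F} (hw : ∀ j, j ≤ i → w j = 0) :
    tv (Pi.single i 1) w ∈ uni n F := by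
  have h : w ⬝ᵥ (Pi.single i 1 : Fin n → F) = 0 := by simp [hw i le_rfl]
  rw [mem_uni_iff, coe_tv h]
  refine ⟨fun k => ?_, fun k l hkl => ?_⟩
  · by_cases hk : k = i
    · subst hk; simp [vecMulVec_apply, hw k le_rfl]
    · simp [vecMulVec_apply, hk]
  · simp only [id] at hkl
    by_cases hk : k = i
    · subst hk; simp [vecMulVec_apply, hkl.ne', hw l hkl.le]
    · simp [vecMulVec_apply, hk, hkl.ne']

/-- Transvections are conjugate in `SL_n` for `n ≥ 3`. -/
theorem exists_conj_pair (hn : 3 ≤ n) {v f v' f' : Fin n → F} (hp : IsPair v f) (hp' : IsPair v' f') :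
    ∃ s : SLn, s * tv v f * s⁻¹ = tv v' f' := by
  classical
  set a : Fin n := ⟨0, by omega⟩
  set b : Fin n := ⟨n - 1, by omega⟩
  set c : Fin n := ⟨1, by omega⟩
  have hab : a ≠ b := fun h => by simp [a, b, Fin.ext_iff] at h; omega
  have hca : c ≠ a := fun h => by simp [a, c, Fin.ext_iff] at h
  have hcb : c ≠ b := fun h => by simp [b, c, Fin.ext_iff] at h; omega
  have horth : (Pi.single b 1 : Fin n → F) ⬝ᵥ Pi.single a 1 = 0 := by simp [hab]
  have key : ∀ {u e : Fin n → F}, IsPair u e →
      ∃ s : SLn, s * tv (Pi.single a 1) (Pi.single b 1) * s⁻¹ = tv u e := by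
    intro u e hue
    obtain ⟨g, hgu, hge⟩ := exists_GL_pair (by omega) hue
    set δ : Fin n → F := fun k => if k = c then ((g : Mat).det)⁻¹ else 1 with hδ
    have hdet : ((g : Mat) * diagonal δ).det = 1 := by
      rw [det_mul, det_diagonal]
      simp only [hδ, Finset.prod_ite_eq', Finset.mem_univ, if_true]
      exact mul_inv_cancel₀ (Matrix.GeneralLinearGroup.det_ne_zero g)
    let s : SLn := ⟨(g : Mat) * diagonal δ, hdet⟩
    refine ⟨s, ?_⟩
    have hsu : (s : Mat) *ᵥ Pi.single a 1 = u := by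
      show ((g : Mat) * diagonal δ) *ᵥ Pi.single a 1 = u
      rw [← mulVec_mulVec, ← hgu]
      congr 1
      funext k
      rw [mulVec_diagonal]
      by_cases hk : k = a
      · subst hk; simp [hδ, hca.symm]; rfl
      · simp [hk, a, Pi.single_eq_of_ne (show k ≠ (⟨0, by omega⟩ : Fin n) from hk)]
    have hse : e ᵥ* (s : Mat) = Pi.single b 1 := by
      show e ᵥ* ((g : Mat) * diagonal δ) = Pi.single b 1
      rw [← vecMul_vecMul, ← hge, vecMul_vecMul (Pi.single b 1), Units.inv_mul, vecMul_one]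
      funext k
      rw [vecMul_diagonal]
      by_cases hk : k = b
      · subst hk; simp [hδ, hcb.symm]
      · simp [hk, Pi.single_eq_of_ne hk]
    rw [conj_tv s horth, hsu, ← hse, vecMul_vecMul, ← Matrix.SpecialLinearGroup.coe_mul, mul_inv_cancel,
      Matrix.SpecialLinearGroup.coe_one, vecMul_one]
  obtain ⟨s, hs⟩ := key hp
  obtain ⟨t, ht⟩ := key hp'
  exact ⟨t * s⁻¹, by rw [← ht, ← hs]; group⟩

/-- A nontrivial subgroup of the unitriangular group closed under conjugation inside it is everything. -/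
theorem eq_uni_of_closed (hn : 3 ≤ n) [Finite F] {T : Subgroup SLn} (hT : T ≤ uni n F)
    (hcl : ∀ t ∈ T, ∀ s : SLn, s * t * s⁻¹ ∈ uni n F → s * t * s⁻¹ ∈ T) (hne : T ≠ ⊥) :
    T = uni n F := by
  classical
  set a : Fin n := ⟨0, by omega⟩
  obtain ⟨⟨u, huT⟩, hu⟩ := Subgroup.ne_bot_iff_exists_ne_one.1 hne
  have hu1 : u ≠ 1 := fun h => hu (Subtype.ext h)
  have horth : ∀ w : Fin n → F, w a = 0 → w ⬝ᵥ (Pi.single a 1 : Fin n → F) = 0 := fun w hw => by simp [hw]
  have hmem : ∀ w : Fin n → F, w a = 0 → tv (Pi.single a 1) w ∈ uni n F := fun w hw =>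
    tv_single_mem_uni fun j hj => by
      have : j = a := le_antisymm hj (Fin.le_def.2 (Nat.zero_le _))
      rw [this, hw]
  have hue : (u : Mat) *ᵥ Pi.single a 1 = Pi.single a 1 := by
    have hu := mem_uni_iff.1 (hT huT)
    funext k
    rw [mulVec_single_one]
    show (u : Mat) k a = _
    by_cases hk : k = a
    · subst hk; simp [hu.1]
    · rw [Pi.single_eq_of_ne hk]
      exact hu.2 (show id a < id k from lt_of_le_of_ne (Fin.le_def.2 (Nat.zero_le _)) (Ne.symm hk))
  obtain ⟨r, hr0, hra, hrT⟩ : ∃ r : Fin n → F, r ≠ 0 ∧ r a = 0 ∧ tv (Pi.single a 1) r ∈ T := by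
    by_cases hall : ∀ w : Fin n → F, w a = 0 → w ᵥ* ((u⁻¹ : SLn) : Mat) = w
    · set r : Fin n → F := (fun l => ((u⁻¹ : SLn) : Mat) a l) - Pi.single a 1
      have hu' := mem_uni_iff.1 (hT (inv_mem huT))
      have hra : r a = 0 := by
        show ((u⁻¹ : SLn) : Mat) a a - (Pi.single a 1 : Fin n → F) a = 0
        rw [hu'.1, Pi.single_eq_same, sub_self]
      have heq : (u⁻¹ : SLn) = tv (Pi.single a 1) r := by
        apply Subtype.ext
        rw [coe_tv (horth r hra)]
        ext k l
        by_cases hk : k = a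
        · subst hk; simp [-Matrix.SpecialLinearGroup.coe_inv, vecMulVec_apply, r, Matrix.one_apply, Pi.single_apply, eq_comm]
        · have := congrFun (hall (Pi.single k 1) (by simp [Ne.symm hk])) l
          simp [-Matrix.SpecialLinearGroup.coe_inv, vecMulVec_apply, hk] at this ⊢
          simp [-Matrix.SpecialLinearGroup.coe_inv, this, Matrix.one_apply, Pi.single_apply, eq_comm]
      refine ⟨r, fun h0 => hu1 ?_, hra, heq ▸ inv_mem huT⟩
      have : (u⁻¹ : SLn) = 1 := by
        rw [heq]; apply Subtype.ext; rw [coe_tv (horth r hra), h0]; simp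
      simpa using this
    · push Not at hall
      obtain ⟨w, hwa, hw⟩ := hall
      set w' := w ᵥ* ((u⁻¹ : SLn) : Mat)
      have hw'a : w' a = 0 := by
        have h := mem_uni_iff.1 (hT (inv_mem huT))
        show ∑ i, w i * ((u⁻¹ : SLn) : Mat) i a = 0
        refine Finset.sum_eq_zero fun i _ => ?_
        by_cases hi : i = a
        · rw [hi, hwa, zero_mul]
        · rw [h.2 (show id a < id i from lt_of_le_of_ne (Fin.le_def.2 (Nat.zero_le _)) (Ne.symm hi)), mul_zero]
      refine ⟨w' - w, sub_ne_zero.2 hw, by simp [hw'a, hwa], ?_⟩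
      set x := tv (Pi.single a 1) w with hx
      have hconj : u * x * u⁻¹ = tv (Pi.single a 1) w' := by rw [hx, conj_tv u (horth w hwa), hue]
      have h1 : x * u⁻¹ * x⁻¹ ∈ T := hcl _ (inv_mem huT) x
        (mul_mem (mul_mem (hmem w hwa) (hT (inv_mem huT))) (inv_mem (hmem w hwa)))
      have h2 : u * (x * u⁻¹ * x⁻¹) ∈ T := mul_mem huT h1
      have h3 : u * (x * u⁻¹ * x⁻¹) = tv (Pi.single a 1) (w' - w) := by
        rw [← mul_assoc, ← mul_assoc, hconj, mul_inv_eq_iff_eq_mul, hx]
        apply Subtype.ext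
        have ho : (w' - w) ⬝ᵥ (Pi.single a 1 : Fin n → F) = 0 := by simp [hw'a, hwa]
        rw [Matrix.SpecialLinearGroup.coe_mul, coe_tv ho, coe_tv (horth w hwa), coe_tv (horth w' hw'a),
          Matrix.mul_add, Matrix.mul_one, Matrix.add_mul, Matrix.one_mul, vecMulVec_mul_vecMulVec]
        rw [ho, zero_smul, Matrix.vecMulVec_zero, add_zero, add_assoc, ← Matrix.vecMulVec_add,
          sub_add_cancel]
      exact h3 ▸ h2
  have hrow : ∀ (i : Fin n) (w : Fin n → F), (∀ j, j ≤ i → w j = 0) → tv (Pi.single i 1) w ∈ T := by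
    intro i w hw
    by_cases hw0 : w = 0
    · have : tv (Pi.single i 1) w = (1 : SLn) := by
        apply Subtype.ext; rw [hw0, coe_tv (by simp)]; simp
      rw [this]; exact one_mem _
    have hp : IsPair (Pi.single a 1 : Fin n → F) r := ⟨by simp, hr0, horth r hra⟩
    have hp' : IsPair (Pi.single i 1 : Fin n → F) w := ⟨by simp, hw0, by simp [hw i le_rfl]⟩
    obtain ⟨s, hs⟩ := exists_conj_pair hn hp hp'
    have := hcl _ hrT s (hs ▸ tv_single_mem_uni hw)
    rwa [hs] at this
  refine le_antisymm hT ?_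
  suffices H : ∀ m : ℕ, ∀ x ∈ uni n F, (∀ k l : Fin n, m ≤ k.val → (x : Mat) k l = (1 : Mat) k l) → x ∈ T from
    fun x hx => H n x hx fun k _ hk => absurd k.isLt (by omega)
  intro m
  induction m with
  | zero =>
    intro x _ h
    have : x = 1 := Subtype.ext (by ext k l; simpa using h k l (Nat.zero_le _))
    rw [this]; exact one_mem _
  | succ m ih =>
    intro x hx h
    by_cases hm : m < n
    · set i : Fin n := ⟨m, hm⟩
      have hxu := mem_uni_iff.1 hx
      set w : Fin n → F := fun l => (x : Mat) i l - (1 : Mat) i l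
      have hw : ∀ j, j ≤ i → w j = 0 := fun j hj => by
        rcases eq_or_lt_of_le hj with rfl | hlt
        · simp [w, hxu.1]
        · simp [w, hxu.2 (show id j < id i from hlt), Matrix.one_apply_ne hlt.ne']
      have ho : (-w) ⬝ᵥ (Pi.single i 1 : Fin n → F) = 0 := by simp [hw i le_rfl]
      have hmem' : x * tv (Pi.single i 1) (-w) ∈ T := by
        refine ih _ (mul_mem hx (tv_single_mem_uni fun j hj => by simp [hw j hj])) fun k l hk => ?_
        rw [Matrix.SpecialLinearGroup.coe_mul, coe_tv ho, Matrix.mul_add, Matrix.mul_one, Matrix.add_apply,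
          mul_vecMulVec, mulVec_single_one, vecMulVec_apply]
        show (x : Mat) k l + (x : Mat) k i * (-w) l = _
        rcases eq_or_lt_of_le (show i ≤ k from Fin.le_def.2 hk) with rfl | hlt
        · rw [hxu.1]; simp [w]
        · rw [hxu.2 (show id i < id k from hlt), zero_mul, add_zero]
          exact h k l (Fin.lt_def.1 hlt)
      have h' := mul_mem hmem' (hrow i w hw)
      have hone : tv (Pi.single i 1) (-w) * tv (Pi.single i 1) w = (1 : SLn) := by
        apply Subtype.ext
        rw [Matrix.SpecialLinearGroup.coe_mul, coe_tv ho, coe_tv (show w ⬝ᵥ _ = 0 by simp [hw i le_rfl]),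
          Matrix.mul_add, Matrix.mul_one, Matrix.add_mul, Matrix.one_mul, vecMulVec_mul_vecMulVec, ho,
          zero_smul, Matrix.vecMulVec_zero, add_zero, add_assoc, ← Matrix.vecMulVec_add]
        simp
      rwa [mul_assoc, hone, mul_one] at h'
    · exact ih x hx fun k l hk => absurd k.isLt (by omega)

/-- A square-zero perturbation of the identity is unitriangular up to scalar only for the scalar one. -/
theorem scalar_eq_one (hn : 1 ≤ n) {X A : Mat} (hA : IsUni A) {c : F} (hX : X * X = 0)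
    (h : 1 + X = c • A) : c = 1 := by
  have hX' : X = c • A - 1 := eq_sub_of_add_eq' h
  have hT : X.BlockTriangular id := by
    intro k l hkl
    simp only [id] at hkl
    rw [hX']
    simp [Matrix.one_apply_ne hkl.ne', hA.2 (show id l < id k from hkl)]
  set k : Fin n := ⟨0, hn⟩
  have h2 : (X * X) k k = X k k * X k k := by
    rw [Matrix.mul_apply]
    refine Finset.sum_eq_single k (fun l _ hl => ?_) (by simp)
    rcases lt_or_gt_of_ne hl with hlt | hgt
    · rw [hT (show id l < id k from hlt), zero_mul]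
    · rw [hT (show id k < id l from hgt), mul_zero]
  have h3 : X k k = c - 1 := by rw [hX']; simp [hA.1]
  rw [hX, h3, Matrix.zero_apply, eq_comm, mul_self_eq_zero, sub_eq_zero] at h2
  exact h2

/-- An element conjugating the unitriangular group into itself up to scalars is triangular. -/
theorem blockTriangular_of_conj [Finite F] (s : SLn)
    (h : ∀ u ∈ uni n F, ∃ (u' : SLn) (c : F), u' ∈ uni n F ∧
      ((s * u * s⁻¹ : SLn) : Mat) = c • (u' : Mat)) :
    (s : Mat).BlockTriangular id := by
  classical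
  have h1 : ∀ k : Fin n, ∃ l, ((s⁻¹ : SLn) : Mat) k l ≠ 0 ∧ (s : Mat) l k ≠ 0 := by
    intro k
    by_contra hcon
    push Not at hcon
    have : (((s⁻¹ * s : SLn)) : Mat) k k = 0 := by
      rw [Matrix.SpecialLinearGroup.coe_mul, Matrix.mul_apply]
      refine Finset.sum_eq_zero fun l _ => ?_
      by_cases h0 : ((s⁻¹ : SLn) : Mat) k l = 0
      · rw [h0, zero_mul]
      · rw [hcon l h0, mul_zero]
    simp at this
  choose K hK hK' using h1
  have hne : ∀ k, (Finset.univ.filter fun x => (s : Mat) x k ≠ 0).Nonempty := fun k => ⟨K k, by simp [hK']⟩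
  set M : Fin n → Fin n := fun k => (Finset.univ.filter fun x => (s : Mat) x k ≠ 0).max' (hne k)
  have hMle : ∀ k x, (s : Mat) x k ≠ 0 → x ≤ M k := fun k x hx => Finset.le_max' _ _ (by simp [hx])
  have hMne : ∀ k, (s : Mat) (M k) k ≠ 0 := fun k =>
    (Finset.mem_filter.1 (Finset.max'_mem _ (hne k))).2
  have hlt : ∀ i j, i < j → M i < K j := by
    intro i j hij
    by_contra hle
    have ho : (Pi.single j 1 : Fin n → F) ⬝ᵥ Pi.single i 1 = 0 := by simp [hij.ne']
    obtain ⟨u', c, hu', hc⟩ := h _ (tv_single_mem_uni (i := i) (w := Pi.single j 1)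
      fun l hl => by simp [(lt_of_le_of_lt hl hij).ne])
    rw [Matrix.SpecialLinearGroup.coe_mul, Matrix.SpecialLinearGroup.coe_mul, coe_tv ho, Matrix.mul_add,
      Matrix.add_mul, Matrix.mul_one, ← Matrix.SpecialLinearGroup.coe_mul, mul_inv_cancel,
      Matrix.SpecialLinearGroup.coe_one, mul_vecMulVec, vecMulVec_mul] at hc
    set X : Mat := vecMulVec ((s : Mat) *ᵥ Pi.single i 1) (Pi.single j 1 ᵥ* ((s⁻¹ : SLn) : Mat))
    have hd : (Pi.single j 1 ᵥ* ((s⁻¹ : SLn) : Mat)) ⬝ᵥ ((s : Mat) *ᵥ Pi.single i 1) = 0 := by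
      rw [← dotProduct_mulVec, mulVec_mulVec, ← Matrix.SpecialLinearGroup.coe_mul, inv_mul_cancel,
        Matrix.SpecialLinearGroup.coe_one, one_mulVec, ho]
    have hXX : X * X = 0 := by
      rw [vecMulVec_mul_vecMulVec, hd, zero_smul, Matrix.vecMulVec_zero]
    have hu'' := mem_uni_iff.1 hu'
    have hc1 := scalar_eq_one (Fin.pos i) hu'' hXX hc
    rw [hc1, one_smul] at hc
    have hX : X (M i) (K j) = 0 := by
      have := congrFun (congrFun hc (M i)) (K j)
      rw [Matrix.add_apply] at this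
      rcases eq_or_lt_of_le (not_lt.1 hle) with he | hl
      · rw [← he, Matrix.one_apply_eq, hu''.1] at this
        rw [← he]
        simpa using this
      · rw [Matrix.one_apply_ne hl.ne', zero_add, hu''.2 (show id (K j) < id (M i) from hl)] at this
        exact this
    rw [show X (M i) (K j) = (s : Mat) (M i) i * ((s⁻¹ : SLn) : Mat) j (K j) from by
      show ((s : Mat) *ᵥ Pi.single i 1) (M i) * (Pi.single j 1 ᵥ* ((s⁻¹ : SLn) : Mat)) (K j) = _
      rw [mulVec_single_one, single_one_vecMul]; rfl] at hX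
    exact mul_ne_zero (hMne i) (hK j) hX
  have hmono : StrictMono M := fun i j hij => lt_of_lt_of_le (hlt i j hij) (hMle j _ (hK' j))
  have hid : M = id := by
    have := Finite.injective_iff_bijective.1 hmono.injective
    funext k
    exact congrFun (congrArg DFunLike.coe (Subsingleton.elim
      (StrictMono.orderIsoOfSurjective M hmono this.2) (OrderIso.refl _))) k
  intro x k hkx
  simp only [id] at hkx
  by_contra h0
  exact absurd (hMle k x h0) (by rw [hid]; exact not_le.2 hkx)

/-- Parabolic condition for an index set. -/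
def IsPar (P : Fin n → Prop) (A : Mat) : Prop := ∀ x z, P z → ¬ P x → A x z = 0

theorem IsPar.mul {P : Fin n → Prop} {A B : Mat} (hA : IsPar P A) (hB : IsPar P B) : IsPar P (A * B) := by
  intro x z hz hx
  rw [Matrix.mul_apply]
  refine Finset.sum_eq_zero fun y _ => ?_
  by_cases hy : P y
  · rw [hA x y hy hx, zero_mul]
  · rw [hB y z hz hy, mul_zero]

theorem IsPar.one {P : Fin n → Prop} : IsPar P (1 : Mat) := fun x z hz hx =>
  Matrix.one_apply_ne fun h => hx (h ▸ hz)

theorem isPar_inv [Finite F] {P : Fin n → Prop} {s : SLn} (h : IsPar P (s : Mat)) :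
    IsPar P ((s⁻¹ : SLn) : Mat) := by
  have hpow : ∀ k : ℕ, IsPar P ((s ^ k : SLn) : Mat) := by
    intro k
    induction k with
    | zero => rw [pow_zero, Matrix.SpecialLinearGroup.coe_one]; exact IsPar.one
    | succ k ih => rw [pow_succ, Matrix.SpecialLinearGroup.coe_mul]; exact ih.mul h
  have := hpow (orderOf s - 1)
  rwa [← inv_eq_of_mul_eq_one_right (show s * s ^ (orderOf s - 1) = 1 by
    rw [← pow_succ', Nat.sub_add_cancel (orderOf_pos s), pow_orderOf_eq_one])] at this

/-- Support condition of the abelian unipotent radical for an index set. -/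
def Supp (P : Fin n → Prop) (A : Mat) : Prop := ∀ x y, ¬ (P x ∧ ¬ P y) → A x y = 0

/-- The abelian unipotent radical for an index set. -/
def radical (P : Fin n → Prop) : Subgroup SLn where
  carrier := {s | Supp P ((s : Mat) - 1)}
  one_mem' := by intro x y _; simp
  mul_mem' := by
    intro s t hs ht
    have h0 : ((s : Mat) - 1) * ((t : Mat) - 1) = 0 := by
      ext x y
      rw [Matrix.mul_apply]
      refine Finset.sum_eq_zero fun z _ => ?_
      by_cases hz : P z
      · rw [hs x z fun h => h.2 hz, zero_mul]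
      · rw [ht z y fun h => hz h.1, mul_zero]
    intro x y hxy
    have he : (((s * t : SLn)) : Mat) - 1 = ((s : Mat) - 1) + ((t : Mat) - 1) := by
      rw [Matrix.SpecialLinearGroup.coe_mul]
      rw [Matrix.sub_mul, Matrix.mul_sub, Matrix.mul_one, Matrix.one_mul] at h0
      rw [← sub_eq_zero, ← h0]; abel
    rw [he, Matrix.add_apply, hs x y hxy, ht x y hxy, add_zero]
  inv_mem' := by
    intro s hs
    have h0 : ((s : Mat) - 1) * ((s : Mat) - 1) = 0 := by
      ext x y
      rw [Matrix.mul_apply]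
      refine Finset.sum_eq_zero fun z _ => ?_
      by_cases hz : P z
      · rw [hs x z fun h => h.2 hz, zero_mul]
      · rw [hs z y fun h => hz h.1, mul_zero]
    have hmul : (s : Mat) * (1 - ((s : Mat) - 1)) = 1 := by
      calc (s : Mat) * (1 - ((s : Mat) - 1))
          = (1 + ((s : Mat) - 1)) * (1 - ((s : Mat) - 1)) := by rw [add_sub_cancel]
        _ = 1 - ((s : Mat) - 1) * ((s : Mat) - 1) := by noncomm_ring
        _ = 1 := by rw [h0, sub_zero]
    have hinv : ((s⁻¹ : SLn) : Mat) = 1 - ((s : Mat) - 1) := by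
      calc ((s⁻¹ : SLn) : Mat) = ((s⁻¹ : SLn) : Mat) * ((s : Mat) * (1 - ((s : Mat) - 1))) := by
            rw [hmul, Matrix.mul_one]
        _ = (((s⁻¹ * s : SLn)) : Mat) * (1 - ((s : Mat) - 1)) := by
            rw [Matrix.SpecialLinearGroup.coe_mul, Matrix.mul_assoc]
        _ = _ := by rw [inv_mul_cancel, Matrix.SpecialLinearGroup.coe_one, Matrix.one_mul]
    intro x y hxy
    have := hs x y hxy
    rw [hinv, Matrix.sub_apply, Matrix.sub_apply]
    simp [this]

theorem mem_radical {P : Fin n → Prop} {s : SLn} : s ∈ radical P ↔ Supp P ((s : Mat) - 1) := Iff.rfl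

theorem conj_mem_radical [Finite F] {P : Fin n → Prop} {g s : SLn} (hg : IsPar P (g : Mat))
    (hs : s ∈ radical P) : g * s * g⁻¹ ∈ radical P := by
  rw [mem_radical] at hs ⊢
  have he : ((g * s * g⁻¹ : SLn) : Mat) - 1 = (g : Mat) * ((s : Mat) - 1) * ((g⁻¹ : SLn) : Mat) := by
    rw [Matrix.mul_sub, Matrix.sub_mul, Matrix.mul_one, ← Matrix.SpecialLinearGroup.coe_mul,
      ← Matrix.SpecialLinearGroup.coe_mul, ← Matrix.SpecialLinearGroup.coe_mul, mul_inv_cancel,
      Matrix.SpecialLinearGroup.coe_one]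
  intro x y hxy
  rw [he, Matrix.mul_apply]
  refine Finset.sum_eq_zero fun w _ => ?_
  by_cases hw : ¬ P w ∧ P y
  · rw [isPar_inv hg w y hw.2 hw.1, mul_zero]
  · rw [Matrix.mul_apply]
    refine mul_eq_zero_of_left (Finset.sum_eq_zero fun z _ => ?_) _
    by_cases hz : P z ∧ ¬ P w
    · by_cases hx : P x
      · exact absurd ⟨hx, fun hy => hw ⟨hz.2, hy⟩⟩ hxy
      · rw [hg x z hz.1 hx, zero_mul]
    · rw [hs z w hz, mul_zero]

theorem radical_le_uni [Finite F] {P : Fin n → Prop} (hP : ∀ x y : Fin n, y ≤ x → P x → P y) :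
    radical (F := F) P ≤ uni n F := by
  intro s hs
  rw [mem_uni_iff]
  refine ⟨fun k => ?_, fun x y hyx => ?_⟩
  · simpa [sub_eq_zero] using hs k k fun h => h.2 h.1
  · simp only [id] at hyx
    simpa [hyx.ne'] using hs x y fun h => h.2 (hP x y hyx.le h.1)

theorem isPar_of_blockTriangular {P : Fin n → Prop} (hP : ∀ x y : Fin n, y ≤ x → P x → P y) {A : Mat}
    (hA : A.BlockTriangular id) : IsPar P A := fun x z hz hx =>
  hA (show id z < id x from lt_of_not_ge fun h => hx (hP z x h hz))

theorem isPar_transvection {P : Fin n → Prop} {i j : Fin n} (hij : i ≠ j) (h : P j → P i) (t : F) :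
    IsPar P ((Matrix.SpecialLinearGroup.transvection hij t : SLn) : Mat) := by
  intro x z hz hx
  rw [Matrix.SpecialLinearGroup.transvection_coe]
  have h1 : ¬ (i = x ∧ j = z) := fun hh => hx (hh.1 ▸ h (hh.2.symm ▸ hz))
  have h2 : x ≠ z := fun hh => hx (hh ▸ hz)
  simp [Matrix.single_apply, h1, h2]

theorem orderOf_transvection_dvd (p : ℕ) [CharP F p] {i j : Fin n} (hij : i ≠ j) (t : F) :
    orderOf (Matrix.SpecialLinearGroup.transvection hij t : SLn) ∣ p := by
  apply orderOf_dvd_of_pow_eq_one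
  have h : ∀ k : ℕ, (Matrix.SpecialLinearGroup.transvection hij t : SLn) ^ k =
      Matrix.SpecialLinearGroup.transvection hij ((k : F) * t) := by
    intro k
    induction k with
    | zero => simp
    | succ k ih => rw [pow_succ, ih, ← Matrix.SpecialLinearGroup.transvection_add, Nat.cast_succ, add_mul, one_mul]
  rw [h, CharP.cast_eq_zero, zero_mul, Matrix.SpecialLinearGroup.transvection_coeff_zero]

end Cfsg.Agent.Lib.Linear.FusionPSL
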