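import Cfsg.Agent.Lib.Linear.Simple
import Cfsg.Agent.Lib.Linear.Order

/-!
Homomorphisms obtained from a finite family of finite sets permuted by generators, generators of
SL over prime fields, and transport of PSL along field isomorphisms.
-/

namespace Cfsg.Agent.Lib.Linear

open Matrix

variable {G K β κ : Type*} [Group G] [Group K] [DecidableEq β] [MulAction K κ]

/-- The elements of `G` inducing the action of some element of `K` on the family. -/
def familyStab (act : G → β → β) (hone : ∀ x, act 1 x = x)
    (hmul : ∀ g h x, act (g * h) x = act g (act h x)) (objs : κ → Finset β) : Subgroup G where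
  carrier := {g | ∃ k : K, ∀ i, (objs i).image (act g) = objs (k • i)}
  one_mem' := ⟨1, fun i => by rw [one_smul, Finset.image_congr (fun x _ => hone x), Finset.image_id']⟩
  mul_mem' := by
    rintro g h ⟨k, hk⟩ ⟨l, hl⟩
    refine ⟨k * l, fun i => ?_⟩
    rw [Finset.image_congr (fun x _ => hmul g h x), mul_smul, ← hk, ← hl, Finset.image_image]
    rfl
  inv_mem' := by
    rintro g ⟨k, hk⟩
    refine ⟨k⁻¹, fun i => ?_⟩
    have h := hk (k⁻¹ • i)
    rw [smul_inv_smul] at h
    rw [← h, Finset.image_image]
    conv_rhs => rw [← Finset.image_id' (s := objs (k⁻¹ • i))]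
    apply Finset.image_congr
    intro x _
    rw [Function.comp_apply, ← hmul, inv_mul_cancel, hone]

theorem exists_family_hom [FaithfulSMul K κ] (act : G → β → β) (hone : ∀ x, act 1 x = x)
    (hmul : ∀ g h x, act (g * h) x = act g (act h x)) (objs : κ → Finset β)
    (hinj : Function.Injective objs) (S : Set G) (hS : Subgroup.closure S = ⊤)
    (h : ∀ s ∈ S, ∃ k : K, ∀ i, (objs i).image (act s) = objs (k • i)) :
    ∃ φ : G →* K, ∀ g i, (objs i).image (act g) = objs (φ g • i) := by
  have htop : familyStab (K := K) act hone hmul objs = ⊤ :=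
    top_le_iff.mp (hS ▸ (Subgroup.closure_le _).mpr h)
  have hall : ∀ g, ∃ k : K, ∀ i, (objs i).image (act g) = objs (k • i) := fun g => by
    have : g ∈ familyStab (K := K) act hone hmul objs := by rw [htop]; trivial
    exact this
  choose f hf using hall
  refine ⟨MonoidHom.mk' f fun g g' => ?_, hf⟩
  apply eq_of_smul_eq_smul (α := κ)
  intro i
  apply hinj
  rw [← hf, Finset.image_congr (fun x _ => hmul g g' x), mul_smul, ← hf g, ← hf g',
    Finset.image_image]
  rfl

/-- An element acting trivially on the family maps to 1. -/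
theorem family_hom_eq_one [FaithfulSMul K κ] {act : G → β → β} {objs : κ → Finset β}
    (hinj : Function.Injective objs) {φ : G →* K}
    (hφ : ∀ g i, (objs i).image (act g) = objs (φ g • i)) {z : G} (hz : ∀ x, act z x = x) :
    φ z = 1 := by
  apply eq_of_smul_eq_smul (α := κ)
  intro i
  apply hinj
  rw [← hφ, one_smul, Finset.image_congr (fun x _ => hz x), Finset.image_id']

variable {F : Type*} [Field F] {ι : Type*} [Fintype ι] [DecidableEq ι]

/-- A nontrivial homomorphism from SL killing the centre gives an embedding of a simple PSL. -/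
theorem exists_injective_psl {M : Type*} [Group M]
    [IsSimpleGroup (Matrix.ProjectiveSpecialLinearGroup ι F)]
    (φ : Matrix.SpecialLinearGroup ι F →* M)
    (hz : ∀ z ∈ Subgroup.center (Matrix.SpecialLinearGroup ι F), φ z = 1) (hne : ∃ g, φ g ≠ 1) :
    ∃ ψ : Matrix.ProjectiveSpecialLinearGroup ι F →* M,
      Function.Injective ψ ∧ ∀ g : Matrix.SpecialLinearGroup ι F, ψ (QuotientGroup.mk g) = φ g := by
  refine ⟨QuotientGroup.lift _ φ hz, ?_, fun g => rfl⟩
  rw [← MonoidHom.ker_eq_bot_iff]
  refine (IsSimpleGroup.eq_bot_or_eq_top_of_normal _ inferInstance).resolve_right fun htop => ?_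
  obtain ⟨g, hg⟩ := hne
  apply hg
  have : (QuotientGroup.mk g : Matrix.ProjectiveSpecialLinearGroup ι F) ∈
      (QuotientGroup.lift _ φ hz).ker := by rw [htop]; trivial
  exact this

/-- Conjugation action of SL on matrices, and triviality of the centre on it. -/
def conjMat (g : Matrix.SpecialLinearGroup ι F) (m : Matrix ι ι F) : Matrix ι ι F :=
  (g : Matrix ι ι F) * m * ((g⁻¹ : Matrix.SpecialLinearGroup ι F) : Matrix ι ι F)

theorem conjMat_one (m : Matrix ι ι F) : conjMat 1 m = m := by simp [conjMat]

theorem conjMat_mul (g h : Matrix.SpecialLinearGroup ι F) (m : Matrix ι ι F) :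
    conjMat (g * h) m = conjMat g (conjMat h m) := by
  simp only [conjMat, _root_.mul_inv_rev, Matrix.SpecialLinearGroup.coe_mul, Matrix.mul_assoc]

theorem conjMat_center {z : Matrix.SpecialLinearGroup ι F}
    (hz : z ∈ Subgroup.center (Matrix.SpecialLinearGroup ι F)) (m : Matrix ι ι F) :
    conjMat z m = m := by
  obtain ⟨r, -, hr⟩ := Matrix.SpecialLinearGroup.mem_center_iff.mp hz
  rw [conjMat, ← hr, (Matrix.scalar_commute r (Commute.all r) m).eq, Matrix.mul_assoc, hr,
    ← Matrix.SpecialLinearGroup.coe_mul, mul_inv_cancel, Matrix.SpecialLinearGroup.coe_one,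
    Matrix.mul_one]

theorem conjMat_transvection {i j : ι} (h : i ≠ j) (c : F) (m : Matrix ι ι F) :
    conjMat (Matrix.SpecialLinearGroup.transvection h c) m =
      Matrix.transvection i j c * m * Matrix.transvection i j (-c) := by
  rw [conjMat, Matrix.SpecialLinearGroup.transvection_inv]; rfl

theorem transvection_natCast {i j : ι} (h : i ≠ j) (k : ℕ) :
    Matrix.SpecialLinearGroup.transvection h (k : F) =
      (Matrix.SpecialLinearGroup.transvection h (1 : F)) ^ k := by
  induction k with
  | zero => simp
  | succ k ih => rw [Nat.cast_succ, Matrix.SpecialLinearGroup.transvection_add, ih, pow_succ]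

/-- Over a prime field SL is generated by the transvections with coefficient 1. -/
theorem closure_transvection_one_zmod (p : ℕ) [Fact p.Prime] :
    Subgroup.closure {g : Matrix.SpecialLinearGroup ι (ZMod p) |
      ∃ (i j : ι) (h : i ≠ j), Matrix.SpecialLinearGroup.transvection h 1 = g} = ⊤ := by
  refine sl_eq_top_of_transvection_mem _ fun i j h c => ?_
  rw [← ZMod.natCast_zmod_val c, transvection_natCast]
  refine Subgroup.pow_mem _ (Subgroup.subset_closure ?_) _
  exact ⟨i, j, h, rfl⟩

/-- SL along a field isomorphism. -/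
def slCongr {L : Type*} [Field L] (e : F ≃+* L) :
    Matrix.SpecialLinearGroup ι F ≃* Matrix.SpecialLinearGroup ι L where
  toFun := Matrix.SpecialLinearGroup.map e.toRingHom
  invFun := Matrix.SpecialLinearGroup.map e.symm.toRingHom
  left_inv g := by ext i j; simp
  right_inv g := by ext i j; simp
  map_mul' := map_mul _

theorem nonempty_pslCongr {L : Type*} [Field L] (e : F ≃+* L) :
    Nonempty (Matrix.ProjectiveSpecialLinearGroup ι F ≃* Matrix.ProjectiveSpecialLinearGroup ι L) := by
  refine ⟨QuotientGroup.congr _ _ (slCongr e) ?_⟩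
  ext h
  show h ∈ (Subgroup.center _).map (slCongr e).toMonoidHom ↔ _
  rw [Subgroup.mem_map_equiv, Subgroup.mem_center_iff, Subgroup.mem_center_iff]
  constructor
  · intro hh g
    have := congrArg (slCongr e) (hh ((slCongr e).symm g))
    simpa using this
  · intro hh g
    apply (slCongr e).injective
    simpa using hh (slCongr e g)

/-- A field with a prime number `p` of elements is `ZMod p`. -/
theorem nonempty_pslCongr_zmod [Fintype F] (p : ℕ) [Fact p.Prime] (h : Fintype.card F = p) :
    Nonempty (Matrix.ProjectiveSpecialLinearGroup ι F ≃*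
      Matrix.ProjectiveSpecialLinearGroup ι (ZMod p)) :=
  nonempty_pslCongr (ZMod.ringEquivOfPrime F Fact.out h).symm

end Cfsg.Agent.Lib.Linear
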